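import Mathlib
import Cfsg.Prelude.Def_KGroupFacts
import Cfsg.Prelude.Def_Spor_ON

/-!
Project ONM (helper17): the Schur multiplier of the O'Nan group.  Definitions: the presented central extension
of the O'Nan group by a group of order three.
-/

set_option autoImplicit false

namespace Cfsg.Agent.Lib.helper17.ONM

open Cfsg.Spor

/-- the generators of the cover: `none` stands for the central element -/
abbrev CGen : Type := Option ON.Gen

/-- the central generator as a word -/
abbrev zW : FreeGroup CGen := FreeGroup.of none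

/-- the words of the O'Nan group as words of the cover -/
abbrev embW : FreeGroup ON.Gen →* FreeGroup CGen := FreeGroup.map some

/-- the relators of the cover: the Coxeter relators; `a f = g^2 = (c d)^4`, `1 = c c^(d g d g) = d d^(c g c g)`;
`z = (b c d g)^5 = g b g^c g^b g^c = g e g^d g^e g^d`; `z^3`; `z` commutes with the generators -/
def coverRels : Set (FreeGroup CGen) :=
  {r | ∃ r0 ∈ coxRelators ON.edges, r = embW r0} ∪
  {r | r ∈ [embW ((ON.a * ON.f) * ((ON.g ^ 2)⁻¹)),
            embW ((ON.a * ON.f) * (((ON.c * ON.d) ^ 4)⁻¹)),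
            embW (ON.c * ((ON.d * ON.g * ON.d * ON.g)⁻¹ * ON.c * (ON.d * ON.g * ON.d * ON.g))),
            embW (ON.d * ((ON.c * ON.g * ON.c * ON.g)⁻¹ * ON.d * (ON.c * ON.g * ON.c * ON.g))),
            embW ((ON.b * ON.c * ON.d * ON.g) ^ 5) * zW⁻¹,
            embW (ON.g * ON.b * (ON.c⁻¹ * ON.g * ON.c) * (ON.b⁻¹ * ON.g * ON.b) * (ON.c⁻¹ * ON.g * ON.c)) * zW⁻¹,
            embW (ON.g * ON.e * (ON.d⁻¹ * ON.g * ON.d) * (ON.e⁻¹ * ON.g * ON.e) * (ON.d⁻¹ * ON.g * ON.d)) * zW⁻¹,
            zW ^ 3]} ∪
  {r | ∃ y : ON.Gen, r = FreeGroup.of (some y) * zW * (FreeGroup.of (some y))⁻¹ * zW⁻¹}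

/-- the cover of the O'Nan group -/
abbrev Cov : Type := PresentedGroup coverRels

/-- the central element of the cover -/
noncomputable def zC : Cov := PresentedGroup.mk coverRels zW

/-- the generators of the cover -/
noncomputable def gC (y : ON.Gen) : Cov := PresentedGroup.mk coverRels (FreeGroup.of (some y))

end Cfsg.Agent.Lib.helper17.ONM
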