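import Cfsg.Agent.Lib.helper17.ONM.Odd

set_option autoImplicit false

namespace Cfsg.Agent.Lib.helper17.ONM

open Cfsg.Spor Cfsg.Agent.Lib.Helper12.TC Cfsg.Agent.Lib.Helper12.TCG

local notation "vv" => ONPres.v

/-- the letters from eight values -/
def let8 {K : Type*} [Group K] (A B C D E F' g : K) : ℕ → K
  | 0 => A
  | 1 => B
  | 2 => C
  | 3 => D
  | 4 => E
  | 5 => F'
  | 6 => g
  | 7 => g⁻¹
  | _ => 1

/-- lifts of the generators of the O'Nan group to a stem extension with kernel of odd order: involutions for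
`a, ..., f`, a lift of `g` with `g^2 = a f`; the Coxeter words and the words of `a f = g^2 = (c d)^4`,
`c c^(dgdg)`, `d d^(cgcg)` hold exactly -/
theorem onm_odd_lifts {Γ : Type*} [Group Γ] [Finite Γ] (σ : Γ →* ON) (hs : Function.Surjective σ)
    (hc : σ.ker ≤ Subgroup.center Γ) (hodd : Odd (Nat.card σ.ker)) :
    ∃ f : ℕ → Γ, (∀ s < 8, σ (f s) = vv s) ∧ f 7 = (f 6)⁻¹ ∧ (∀ s, ¬ s < 8 → f s = 1) ∧
      (∀ s < 6, f s * f s = 1) ∧
      (∀ b ∈ coxWords ON.edges ONPres.gen 6, wprod f b = 1) ∧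
      wprod f [0, 5, 7, 7] = 1 ∧ wprod f [0, 5, 3, 2, 3, 2, 3, 2, 3, 2] = 1 ∧
      wprod f [2, 7, 3, 7, 3, 2, 3, 6, 3, 6] = 1 ∧ wprod f [3, 7, 2, 7, 2, 3, 2, 6, 2, 6] = 1 := by
  obtain ⟨A, hA, hA2⟩ := onm_odd_inv σ hs hc hodd (vv 0) (on_sq 0 (by norm_num))
  obtain ⟨B, hB, hB2⟩ := onm_odd_inv σ hs hc hodd (vv 1) (on_sq 1 (by norm_num))
  obtain ⟨C, hC, hC2⟩ := onm_odd_inv σ hs hc hodd (vv 2) (on_sq 2 (by norm_num))
  obtain ⟨D, hD, hD2⟩ := onm_odd_inv σ hs hc hodd (vv 3) (on_sq 3 (by norm_num))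
  obtain ⟨E, hE, hE2⟩ := onm_odd_inv σ hs hc hodd (vv 4) (on_sq 4 (by norm_num))
  obtain ⟨F', hF, hF2⟩ := onm_odd_inv σ hs hc hodd (vv 5) (on_sq 5 (by norm_num))
  obtain ⟨g0, hg0⟩ := hs (vv 6)
  -- relations of the O'Nan group
  have r1 := on_word [0, 5, 7, 7] (by decide)
  have r2 := on_word [0, 5, 3, 2, 3, 2, 3, 2, 3, 2] (by decide)
  have r3 := on_word [2, 7, 3, 7, 3, 2, 3, 6, 3, 6] (by decide)
  have r4 := on_word [3, 7, 2, 7, 2, 3, 2, 6, 2, 6] (by decide)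
  simp only [wprod_cons, wprod_nil, mul_one, on_v7] at r1 r2 r3 r4
  -- the lift of `g`
  have hgg : σ (g0 * g0) = σ (A * F') := by
    rw [map_mul, map_mul, hg0, hA, hF]
    have : vv 0 * vv 5 = vv 6 * vv 6 := by
      have h := r1
      rw [← mul_assoc, ← mul_assoc, mul_inv_eq_one, mul_inv_eq_iff_eq_mul] at h
      exact h
    exact this.symm
  obtain ⟨g1, hg1, hg1sq⟩ := onm_odd_sqrt σ hc hodd g0 (A * F') hgg
  rw [hg0] at hg1
  set f := let8 A B C D E F' g1 with hf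
  have hσf : ∀ s < 8, σ (f s) = vv s := by
    intro s hs8
    interval_cases s
    · exact hA
    · exact hB
    · exact hC
    · exact hD
    · exact hE
    · exact hF
    · exact hg1
    · show σ g1⁻¹ = vv 7
      rw [map_inv, hg1, on_v7]
  have hsq : ∀ s < 6, f s * f s = 1 := by
    intro s hs6
    interval_cases s
    · exact hA2
    · exact hB2
    · exact hC2
    · exact hD2
    · exact hE2
    · exact hF2
  have hcox := onm_cox_of_odd σ hc hodd f (fun s h6 => hσf s (by omega)) hsq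
  have iA : A⁻¹ = A := inv_eq_of_mul_eq_one_left hA2
  have iC : C⁻¹ = C := inv_eq_of_mul_eq_one_left hC2
  have iD : D⁻¹ = D := inv_eq_of_mul_eq_one_left hD2
  have iF : F'⁻¹ = F' := inv_eq_of_mul_eq_one_left hF2
  -- `a f` and `(c d)^4` lift to involutions
  have hAF2 : (A * F') * (A * F') = 1 := by
    have h := hcox [0, 5, 0, 5] (by decide)
    rw [wprod_cons, wprod_cons, wprod_cons, wprod_cons, wprod_nil, mul_one] at h
    have h' : A * (F' * (A * F')) = 1 := h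
    rw [mul_assoc]
    exact h'
  have hCD8 : (C * D) ^ 8 = 1 := by
    have h := hcox (coxWord 8 2 3) (by decide)
    rw [wprod_coxWord] at h
    exact h
  have hx2 : A * F' = (C * D) ^ 4 := by
    apply onm_odd_eq σ hc hodd _ _ hAF2
    · rw [← pow_two, ← pow_mul]; exact hCD8
    · rw [map_mul, map_pow, map_mul, hA, hF, hC, hD]
      -- in the O'Nan group
      have h := r2
      have e : vv 3 * (vv 2 * (vv 3 * (vv 2 * (vv 3 * (vv 2 * (vv 3 * vv 2)))))) = ((vv 2 * vv 3) ^ 4)⁻¹ := by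
        rw [pow_succ, pow_succ, pow_succ, pow_one]
        simp only [mul_inv_rev, on_inv 2 (by norm_num), on_inv 3 (by norm_num), mul_assoc]
      rw [← mul_assoc, e, mul_inv_eq_one] at h
      exact h
  refine ⟨f, hσf, rfl, ?_, hsq, hcox, ?_, ?_, ?_, ?_⟩
  · intro s hs8
    have : 8 ≤ s := Nat.le_of_not_lt hs8
    obtain ⟨t, rfl⟩ := Nat.exists_eq_add_of_le this
    rw [Nat.add_comm]
    rfl
  · -- a f g⁻¹ g⁻¹
    show A * (F' * (g1⁻¹ * (g1⁻¹ * 1))) = 1
    rw [mul_one, ← mul_assoc, ← hg1sq]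
    group
  · -- a f (d c)^4
    show A * (F' * (D * (C * (D * (C * (D * (C * (D * (C * 1))))))))) = 1
    rw [mul_one, ← mul_assoc, hx2]
    have e : D * (C * (D * (C * (D * (C * (D * C)))))) = ((C * D) ^ 4)⁻¹ := by
      rw [pow_succ, pow_succ, pow_succ, pow_one]
      simp only [mul_inv_rev, iC, iD, mul_assoc]
    rw [e, mul_inv_cancel]
  · -- c c^(dgdg)
    show C * (g1⁻¹ * (D * (g1⁻¹ * (D * (C * (D * (g1 * (D * (g1 * 1))))))))) = 1
    have hW : g1⁻¹ * (D * (g1⁻¹ * (D * (C * (D * (g1 * (D * g1))))))) =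
        (D * g1 * D * g1)⁻¹ * C * (D * g1 * D * g1) := by
      simp only [mul_inv_rev, iD, mul_assoc]
    rw [mul_one, hW]
    have hT : (D * g1 * D * g1)⁻¹ * C * (D * g1 * D * g1) = C := by
      apply onm_odd_eq σ hc hodd _ _ _ hC2
      · simp only [map_mul, map_inv, hC, hD, hg1]
        have h := r3
        have e : (vv 6)⁻¹ * (vv 3 * ((vv 6)⁻¹ * (vv 3 * (vv 2 * (vv 3 * (vv 6 * (vv 3 * vv 6))))))) =
            (vv 3 * vv 6 * vv 3 * vv 6)⁻¹ * vv 2 * (vv 3 * vv 6 * vv 3 * vv 6) := by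
          simp only [mul_inv_rev, on_inv 3 (by norm_num), mul_assoc]
        rw [e] at h
        have h2 := eq_inv_of_mul_eq_one_right h
        rw [on_inv 2 (by norm_num)] at h2
        exact h2
      · calc (D * g1 * D * g1)⁻¹ * C * (D * g1 * D * g1) * ((D * g1 * D * g1)⁻¹ * C * (D * g1 * D * g1))
            = (D * g1 * D * g1)⁻¹ * (C * C) * (D * g1 * D * g1) := by group
          _ = 1 := by rw [hC2]; group
    rw [hT, hC2]
  · -- d d^(cgcg)
    show D * (g1⁻¹ * (C * (g1⁻¹ * (C * (D * (C * (g1 * (C * (g1 * 1))))))))) = 1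
    have hW : g1⁻¹ * (C * (g1⁻¹ * (C * (D * (C * (g1 * (C * g1))))))) =
        (C * g1 * C * g1)⁻¹ * D * (C * g1 * C * g1) := by
      simp only [mul_inv_rev, iC, mul_assoc]
    rw [mul_one, hW]
    have hT : (C * g1 * C * g1)⁻¹ * D * (C * g1 * C * g1) = D := by
      apply onm_odd_eq σ hc hodd _ _ _ hD2
      · simp only [map_mul, map_inv, hC, hD, hg1]
        have h := r4
        have e : (vv 6)⁻¹ * (vv 2 * ((vv 6)⁻¹ * (vv 2 * (vv 3 * (vv 2 * (vv 6 * (vv 2 * vv 6))))))) =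
            (vv 2 * vv 6 * vv 2 * vv 6)⁻¹ * vv 3 * (vv 2 * vv 6 * vv 2 * vv 6) := by
          simp only [mul_inv_rev, on_inv 2 (by norm_num), mul_assoc]
        rw [e] at h
        have h2 := eq_inv_of_mul_eq_one_right h
        rw [on_inv 3 (by norm_num)] at h2
        exact h2
      · calc (C * g1 * C * g1)⁻¹ * D * (C * g1 * C * g1) * ((C * g1 * C * g1)⁻¹ * D * (C * g1 * C * g1))
            = (C * g1 * C * g1)⁻¹ * (D * D) * (C * g1 * C * g1) := by group
          _ = 1 := by rw [hD2]; group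
    rw [hT, hD2]

end Cfsg.Agent.Lib.helper17.ONM
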