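import Cfsg.Agent.Lib.helper17.ONM.NoTwo
import Cfsg.Agent.Lib.helper17.ONM.Cover.Exists
import Cfsg.Agent.Lib.Helper22.ONMPRIMECYC
import Cfsg.Agent.Lib.Helper22.ONMPRIME7
import Cfsg.Agent.Lib.Helper5.StemP
import Cfsg.Agent.Lib.helper3.StemLocal

/-!
Project ONM (helper17): the Schur multiplier of the O'Nan group is cyclic of order three.
-/

set_option autoImplicit false

namespace Cfsg.Agent.Lib.helper17.ONM

open Cfsg.Spor Cfsg.Agent.Lib.Helper12.TC Cfsg.Agent.Lib.Helper12.TCG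
  Cfsg.Agent.Lib.Helper5.Stem Cfsg.Agent.Lib.helper17.OnOut

local notation "vv" => ONPres.v

theorem onm_xy_chk : eqB apON ([6, 1, 6] ++ [0, 1]) ([0, 1] ++ [6, 1, 6]) = true := by decide +kernel

theorem onm_y3_chk : eqB apON [0, 1, 0, 1, 0, 1] [] = true := by decide +kernel

/-- `g b g` and `a b` commute -/
theorem onm_xy : wprod vv [6, 1, 6] * wprod vv [0, 1] = wprod vv [0, 1] * wprod vv [6, 1, 6] := by
  have h := eq_of_eqB semON _ _ onm_xy_chk
  rwa [wprod_append, wprod_append] at h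

/-- `a b` has order dividing three -/
theorem onm_y3 : wprod vv [0, 1] ^ 3 = 1 := by
  have h := eq_of_eqB semON _ _ onm_y3_chk
  have e : wprod vv [0, 1, 0, 1, 0, 1] = wprod vv ([0, 1] ++ ([0, 1] ++ [0, 1])) := rfl
  rw [e, wprod_append, wprod_append, wprod_nil] at h
  rw [pow_succ, pow_two, mul_assoc]
  exact h

/-- the Schur multiplier of the O'Nan group is cyclic of order three -/
theorem onm_main : Cfsg.HasCyclicSchurMultiplier ON 3 := by
  refine ⟨onm_exists, ?_⟩
  intro Γ _ _ σ hσ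
  obtain ⟨c, hc3, hall⟩ := ker_cyclic_of_noncomm.{0, 0} 3 (wprod vv [6, 1, 6]) (wprod vv [0, 1]) onm_xy onm_y3
    (by
      intro p hp hp3 Γ' _ _ σ' hσ'
      by_cases h2 : p = 2
      · rw [h2]; exact onm_no_two σ' hσ'
      by_cases h7 : p = 7
      · rw [h7]; exact onm_no_seven σ' hσ'
      have h5 : 5 ≤ p := by
        have h2' := hp.two_le
        by_contra hlt
        have : p = 4 := by omega
        rw [this] at hp
        exact absurd hp (by norm_num)
      exact onm_no_cyc p hp h5 h7 σ' hσ')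
    (by
      intro Γ' _ _ σ' hσ' h3 X Y hX hY
      exact onm_noncomm σ' hσ' h3 X Y hX hY)
    σ hσ
  apply Cfsg.Agent.Lib.helper3.surj_of_ker_cyclic σ 3
  refine ⟨c.1, c.2, ?_, ?_⟩
  · have := congrArg Subtype.val hc3
    rwa [Subgroup.coe_pow] at this
  · intro z hz
    obtain ⟨j, hj⟩ := Subgroup.mem_zpowers_iff.mp (hall ⟨z, hz⟩)
    refine Subgroup.mem_zpowers_iff.mpr ⟨j, ?_⟩
    have := congrArg Subtype.val hj
    rwa [Subgroup.coe_zpow] at this

end Cfsg.Agent.Lib.helper17.ONM
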