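import Cfsg.Agent.Lib.helper17.ONM.ThreeB

set_option autoImplicit false

namespace Cfsg.Agent.Lib.helper17.ONM

open Cfsg.Spor Cfsg.Agent.Lib.Helper12.TC Cfsg.Agent.Lib.Helper12.TCG

local notation "vv" => ONPres.v

/-- letters for which all the relators hold exactly satisfy the base words -/
theorem onm_base_of_exact {K : Type*} [Group K] (f : ℕ → K) (hf7 : f 7 = (f 6)⁻¹)
    (hsq : ∀ s < 6, f s * f s = 1)
    (hcox : ∀ b ∈ coxWords ON.edges ONPres.gen 6, wprod f b = 1)
    (hx : ∀ b ∈ ONPres.extraWords, wprod f b = 1) :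
    (∀ s < 8, f (invS ONPres.cIV s) = (f s)⁻¹) ∧ ∀ b ∈ ONPres.baseL, wprod f b = 1 := by
  have hvinv : ∀ s < 8, f (invS ONPres.cIV s) = (f s)⁻¹ := by
    intro s hs
    interval_cases s
    · exact (inv_eq_of_mul_eq_one_left (hsq 0 (by norm_num))).symm
    · exact (inv_eq_of_mul_eq_one_left (hsq 1 (by norm_num))).symm
    · exact (inv_eq_of_mul_eq_one_left (hsq 2 (by norm_num))).symm
    · exact (inv_eq_of_mul_eq_one_left (hsq 3 (by norm_num))).symm
    · exact (inv_eq_of_mul_eq_one_left (hsq 4 (by norm_num))).symm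
    · exact (inv_eq_of_mul_eq_one_left (hsq 5 (by norm_num))).symm
    · exact hf7
    · show f 6 = (f 7)⁻¹
      rw [hf7, inv_inv]
  have hi : ∀ s < 8, ∀ s' : ℕ, s' = invS ONPres.cIV s → f s' = (f s)⁻¹ := by
    intro s hs s' e
    rw [e]
    exact hvinv s hs
  refine ⟨hvinv, ?_⟩
  intro b hb
  rcases List.mem_append.mp hb with h | h
  · exact hcox b h
  rcases List.mem_append.mp h with h | h
  · exact hx b h
  rcases List.mem_append.mp h with h | h
  · simp only [ONPres.pairWords, List.mem_cons, List.not_mem_nil, or_false] at h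
    rcases h with rfl | rfl | rfl | rfl | rfl | rfl | rfl | rfl
    · exact pr_word f 0 0 (hi 0 (by norm_num) 0 (by decide))
    · exact pr_word f 1 1 (hi 1 (by norm_num) 1 (by decide))
    · exact pr_word f 2 2 (hi 2 (by norm_num) 2 (by decide))
    · exact pr_word f 3 3 (hi 3 (by norm_num) 3 (by decide))
    · exact pr_word f 4 4 (hi 4 (by norm_num) 4 (by decide))
    · exact pr_word f 5 5 (hi 5 (by norm_num) 5 (by decide))
    · exact pr_word f 6 7 (hi 6 (by norm_num) 7 (by decide))
    · exact pr_word f 7 6 (hi 7 (by norm_num) 6 (by decide))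
  · rw [List.mem_singleton.mp h]; rfl

/-- in a stem extension of the O'Nan group with kernel of order three, lifts of the commuting elements `g b g` and
`a b` never commute -/
theorem onm_noncomm {Γ : Type} [Group Γ] [Finite Γ] (σ : Γ →* ON) (hσ : Cfsg.IsStemExtension σ)
    (h3 : Nat.card σ.ker = 3) (X Y : Γ) (hX : σ X = wprod vv [6, 1, 6]) (hY : σ Y = wprod vv [0, 1]) :
    X * Y ≠ Y * X := by
  intro hXY
  have hσ' := hσ
  obtain ⟨hs, hc, hder⟩ := hσ
  have hodd : Odd (Nat.card σ.ker) := by rw [h3]; decide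
  have hk3 : ∀ k ∈ σ.ker, k ^ 3 = 1 := by
    intro k hk
    have h := pow_card_eq_one' (G := σ.ker) (x := ⟨k, hk⟩)
    rw [h3] at h
    have h' := congrArg Subtype.val h
    rw [Subgroup.coe_pow] at h'
    exact h'
  obtain ⟨f, hσf, hf7, hfge, hsq, hcox, h1, h2, hx3, hx4⟩ := onm_odd_lifts σ hs hc hodd
  have hxy : wprod f [6, 1, 6] * wprod f [0, 1] = wprod f [0, 1] * wprod f [6, 1, 6] := by
    apply comm_of_lifts σ hc _ X _ Y _ _ hXY
    · rw [map_wprod_lift σ f hσf _ (by decide), hX]
    · rw [map_wprod_lift σ f hσf _ (by decide), hY]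
  obtain ⟨hx5, hx6⟩ := onm_three_a σ hc hk3 f hσf hf7 hfge hsq hcox h1 h2 hx3 hx4 hxy
  have hx7 := onm_three_b σ hc hk3 f hσf hf7 hfge hsq hcox h1 h2 hx3 hx4 hx5 hx6
  have hx : ∀ b ∈ ONPres.extraWords, wprod f b = 1 := by
    intro b hb
    simp only [ONPres.extraWords, List.mem_cons, List.not_mem_nil, or_false] at hb
    rcases hb with rfl | rfl | rfl | rfl | rfl | rfl | rfl
    · exact h1
    · exact h2
    · exact hx3
    · exact hx4
    · exact hx5
    · exact hx6
    · exact hx7
  obtain ⟨hinv, hbase⟩ := onm_base_of_exact f hf7 hsq hcox hx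
  have htriv := onm_split σ hσ' f hinv hσf hbase
  -- the kernel is trivial, but has three elements
  have : Nat.card σ.ker = 1 := by
    rw [Nat.card_eq_one_iff_unique]
    refine ⟨⟨fun a b => ?_⟩, ⟨1⟩⟩
    apply Subtype.ext
    rw [htriv a a.2, htriv b b.2]
  rw [h3] at this
  norm_num at this

end Cfsg.Agent.Lib.helper17.ONM
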