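import Cfsg.Agent.Lib.helper17.ONM.Pieces
import Cfsg.Agent.Lib.Helper12.ONL.Final
import Cfsg.Agent.Lib.Helper5.StemX
import Cfsg.Agent.Lib.helper7.CeH
import Cfsg.Agent.S0249

/-!
Project ONM (helper17): the subgroup `N` of index two of `Hs = ⟨a, ..., f⟩`, isomorphic to `PSL (Fin 3) (ZMod 7)`,
as a subgroup of the O'Nan group.
-/

set_option autoImplicit false

namespace Cfsg.Agent.Lib.helper17.ONM

open Cfsg.Spor Cfsg.Agent.Lib.Helper12.TC Cfsg.Agent.Lib.Helper12.TCG
  Cfsg.Agent.Lib.Helper12.Ord Cfsg.Agent.Lib.Helper12.TCG.ONx122760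

local notation "vv" => ONPres.v

/-- a simple group whose order is not a prime is perfect -/
theorem onm_perfect_of_simple {G : Type*} [Group G] [IsSimpleGroup G] (h : ¬ (Nat.card G).Prime) :
    commutator G = ⊤ := by
  rcases IsSimpleGroup.eq_bot_or_eq_top_of_normal (commutator G) inferInstance with hb | ht
  · exfalso
    have hcen : Subgroup.center G = ⊤ := (commutator_eq_bot_iff_center_eq_top G).mp hb
    let _ : CommGroup G :=
      { (inferInstance : Group G) with
        mul_comm := fun a b => by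
          have ha : a ∈ Subgroup.center G := by rw [hcen]; exact Subgroup.mem_top a
          exact (Subgroup.mem_center_iff.mp ha b).symm }
    exact h IsSimpleGroup.prime_card
  · exact ht

/-- the subgroup of index two of `Hs`, in the O'Nan group -/
theorem onm_subN : ∃ N : Subgroup ON, N ≤ Hs ∧ (∀ h ∈ Hs, ∀ n ∈ N, h * n * h⁻¹ ∈ N) ∧
    (∀ h ∈ Hs, ∀ t ∈ Hs, t ∉ N → h ∈ N ∨ h * t ∈ N) ∧ (∀ h ∈ Hs, h * h ∈ N) ∧
    (∃ i < 6, vv i ∉ N) ∧ N ≤ ⁅N, N⁆ ∧
    (∀ (Δ : Type) [Group Δ] [Finite Δ] (τ : Δ →* N), Cfsg.IsStemExtension τ →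
      ∃ π : Multiplicative (ZMod 3) →* τ.ker, Function.Surjective π) ∧
    N.index = 2 * 122760 := by
  obtain ⟨N₀, hnorm, hidx, ⟨e₀⟩⟩ := Cfsg.Agent.Lib.Helper12.ONL.main
  have hinj : Function.Injective Hs.subtype := Hs.subtype_injective
  refine ⟨N₀.map Hs.subtype, Subgroup.map_subtype_le N₀, ?_, ?_, ?_, ?_, ?_, ?_, ?_⟩
  · -- normal
    rintro h hh _ ⟨n, hn, rfl⟩
    refine ⟨⟨h, hh⟩ * n * ⟨h, hh⟩⁻¹, hnorm.conj_mem n hn ⟨h, hh⟩, rfl⟩
  · -- index two
    intro h hh t ht htN
    by_cases hN : h ∈ N₀.map Hs.subtype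
    · exact Or.inl hN
    right
    have h1 : (⟨h, hh⟩ : Hs) ∉ N₀ := fun hm => hN ⟨⟨h, hh⟩, hm, rfl⟩
    have h2 : (⟨t, ht⟩ : Hs) ∉ N₀ := fun hm => htN ⟨⟨t, ht⟩, hm, rfl⟩
    have h3 : (⟨h, hh⟩ : Hs) * ⟨t, ht⟩ ∈ N₀ :=
      (Subgroup.mul_mem_iff_of_index_two hidx).mpr ⟨fun x => absurd x h1, fun x => absurd x h2⟩
    exact ⟨_, h3, rfl⟩
  · -- squares
    intro h hh
    have h3 : (⟨h, hh⟩ : Hs) * ⟨h, hh⟩ ∈ N₀ := (Subgroup.mul_mem_iff_of_index_two hidx).mpr Iff.rfl
    exact ⟨_, h3, rfl⟩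
  · -- some generator lies outside
    by_contra hcon
    have hcon : ∀ i < 6, vv i ∈ N₀.map Hs.subtype := by
      intro i hi
      by_contra h
      exact hcon ⟨i, hi, h⟩
    have hcl : Subgroup.closure {γ : ON | ∃ w ∈ sw, γ = wprod vv w} ≤ N₀.map Hs.subtype := by
      rw [Subgroup.closure_le]
      rintro γ ⟨w, hw, rfl⟩
      simp only [sw, List.mem_cons, List.not_mem_nil, or_false] at hw
      rcases hw with rfl | rfl | rfl | rfl | rfl | rfl
      all_goals rw [wprod_cons, wprod_nil, mul_one]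
      · exact hcon 0 (by norm_num)
      · exact hcon 1 (by norm_num)
      · exact hcon 2 (by norm_num)
      · exact hcon 3 (by norm_num)
      · exact hcon 4 (by norm_num)
      · exact hcon 5 (by norm_num)
    have hle : Hs ≤ N₀.map Hs.subtype := by
      intro x hx
      apply hcl
      rw [← hH]
      exact hx
    have htop : N₀ = ⊤ := by
      rw [eq_top_iff]
      intro x _
      obtain ⟨y, hy, hyx⟩ := hle x.2
      have : y = x := hinj hyx
      rw [← this]
      exact hy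
    rw [htop, Subgroup.index_top] at hidx
    norm_num at hidx
  · -- perfect
    have hcardN : Nat.card N₀ = 1876896 := by
      have h1 := N₀.index_mul_card
      rw [hidx, ONOrder.card_Hs] at h1
      omega
    have hsimp : IsSimpleGroup (Matrix.ProjectiveSpecialLinearGroup (Fin 3) (ZMod 7)) :=
      Cfsg.Agent.S0249.result 3 (le_refl 3)
    have : IsSimpleGroup N₀ := MulEquiv.isSimpleGroup e₀
    have hperf : commutator N₀ = ⊤ := by
      apply onm_perfect_of_simple
      rw [hcardN]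
      norm_num
    set f : N₀ →* ON := Hs.subtype.comp N₀.subtype with hf
    have hr : (⊤ : Subgroup N₀).map f = N₀.map Hs.subtype := by
      rw [hf, ← Subgroup.map_map, ← MonoidHom.range_eq_map, Subgroup.range_subtype]
    rw [← hr, ← Subgroup.map_commutator, ← commutator_def, hperf]
  · -- the multiplier
    have e : ↥(N₀.map Hs.subtype) ≃* Matrix.ProjectiveSpecialLinearGroup (Fin 3) (ZMod 7) :=
      (Subgroup.equivMapOfInjective N₀ Hs.subtype hinj).symm.trans e₀
    have hpsl := Cfsg.Agent.Lib.helper7.Ce.psl_mult_main (F := ZMod 7) 3 (by norm_num)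
      (by intro h; norm_num at h)
      (by
        rw [ZMod.card]
        simp only [Set.mem_insert_iff, Set.mem_singleton_iff, Prod.mk.injEq]
        norm_num)
    have hg : Nat.gcd 3 (Fintype.card (ZMod 7) - 1) = 3 := by rw [ZMod.card]; norm_num
    rw [hg] at hpsl
    have h := Cfsg.Agent.Lib.Helper5.Stem.hasSchurMultiplier_of_equiv e (Multiplicative (ZMod 3)) hpsl.1 hpsl.2
    exact h.2
  · rw [Subgroup.index_map_subtype, hidx, rho_index]
    rfl

end Cfsg.Agent.Lib.helper17.ONM
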