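import Cfsg.Agent.Lib.helper17.ONM.TwoCore
import Cfsg.Agent.Lib.helper17.ONM.Noncomm
import Cfsg.Agent.Lib.helper17.ONM.SubN
import Cfsg.Agent.Lib.helper17.OnOut.Words

/-!
Project ONM (helper17): the O'Nan group has no stem extension with kernel of order two.
-/

set_option autoImplicit false

namespace Cfsg.Agent.Lib.helper17.ONM

open Cfsg.Spor Cfsg.Agent.Lib.Helper12.TC Cfsg.Agent.Lib.Helper12.TCG
  Cfsg.Agent.Lib.Helper12.Ord Cfsg.Agent.Lib.Helper12.TCG.ONx122760 Cfsg.Agent.Lib.Helper5.Stem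
  Cfsg.Agent.Lib.helper17.OnOut

local notation "vv" => ONPres.v

/-! ### the generators `a, ..., f` are conjugate to `a f` -/

theorem onm_conj_word (t ti : List ℕ) (i : ℕ) (h : eqB apON (t ++ ([0, 5] ++ ti)) [i] = true)
    (h' : eqB apON (t ++ ti) [] = true) :
    wprod vv t * (vv 0 * vv 5) * (wprod vv t)⁻¹ = vv i := by
  have e1 := eq_of_eqB semON _ _ h
  have e2 := eq_of_eqB semON _ _ h'
  rw [wprod_append, wprod_nil] at e2
  have e3 : wprod vv ti = (wprod vv t)⁻¹ := eq_inv_of_mul_eq_one_right e2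
  rw [wprod_append, wprod_append, e3, wprod_cons, wprod_cons, wprod_nil, mul_one, wprod_cons, wprod_nil,
    mul_one, ← mul_assoc] at e1
  exact e1

theorem onm_cj0 : eqB apON ([1, 0, 2, 1, 3, 2, 1, 3, 7, 1, 2, 6, 1] ++ ([0, 5] ++
    [1, 7, 2, 1, 6, 3, 1, 2, 3, 1, 2, 0, 1])) [0] = true := by decide +kernel
theorem onm_cj0' : eqB apON ([1, 0, 2, 1, 3, 2, 1, 3, 7, 1, 2, 6, 1] ++
    [1, 7, 2, 1, 6, 3, 1, 2, 3, 1, 2, 0, 1]) [] = true := by decide +kernel
theorem onm_cj1 : eqB apON ([0, 1, 1, 0, 2, 1, 3, 2, 1, 3, 7, 1, 2, 6, 1] ++ ([0, 5] ++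
    [1, 7, 2, 1, 6, 3, 1, 2, 3, 1, 2, 0, 1, 1, 0])) [1] = true := by decide +kernel
theorem onm_cj1' : eqB apON ([0, 1, 1, 0, 2, 1, 3, 2, 1, 3, 7, 1, 2, 6, 1] ++
    [1, 7, 2, 1, 6, 3, 1, 2, 3, 1, 2, 0, 1, 1, 0]) [] = true := by decide +kernel
theorem onm_cj2 : eqB apON ([1, 2, 0, 1, 1, 0, 2, 1, 3, 2, 1, 3, 7, 1, 2, 6, 1] ++ ([0, 5] ++
    [1, 7, 2, 1, 6, 3, 1, 2, 3, 1, 2, 0, 1, 1, 0, 2, 1])) [2] = true := by decide +kernel
theorem onm_cj2' : eqB apON ([1, 2, 0, 1, 1, 0, 2, 1, 3, 2, 1, 3, 7, 1, 2, 6, 1] ++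
    [1, 7, 2, 1, 6, 3, 1, 2, 3, 1, 2, 0, 1, 1, 0, 2, 1]) [] = true := by decide +kernel
theorem onm_cj3 : eqB apON ([4, 3, 5, 4, 4, 5, 3, 4, 2, 3, 4, 2, 7, 4, 3, 6, 4] ++ ([0, 5] ++
    [4, 7, 3, 4, 6, 2, 4, 3, 2, 4, 3, 5, 4, 4, 5, 3, 4])) [3] = true := by decide +kernel
theorem onm_cj3' : eqB apON ([4, 3, 5, 4, 4, 5, 3, 4, 2, 3, 4, 2, 7, 4, 3, 6, 4] ++
    [4, 7, 3, 4, 6, 2, 4, 3, 2, 4, 3, 5, 4, 4, 5, 3, 4]) [] = true := by decide +kernel
theorem onm_cj4 : eqB apON ([5, 4, 4, 5, 3, 4, 2, 3, 4, 2, 7, 4, 3, 6, 4] ++ ([0, 5] ++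
    [4, 7, 3, 4, 6, 2, 4, 3, 2, 4, 3, 5, 4, 4, 5])) [4] = true := by decide +kernel
theorem onm_cj4' : eqB apON ([5, 4, 4, 5, 3, 4, 2, 3, 4, 2, 7, 4, 3, 6, 4] ++
    [4, 7, 3, 4, 6, 2, 4, 3, 2, 4, 3, 5, 4, 4, 5]) [] = true := by decide +kernel
theorem onm_cj5 : eqB apON ([4, 5, 3, 4, 2, 3, 4, 2, 7, 4, 3, 6, 4] ++ ([0, 5] ++
    [4, 7, 3, 4, 6, 2, 4, 3, 2, 4, 3, 5, 4])) [5] = true := by decide +kernel
theorem onm_cj5' : eqB apON ([4, 5, 3, 4, 2, 3, 4, 2, 7, 4, 3, 6, 4] ++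
    [4, 7, 3, 4, 6, 2, 4, 3, 2, 4, 3, 5, 4]) [] = true := by decide +kernel

/-- each of the generators `a, ..., f` is conjugate to `a f` -/
theorem onm_gen_conj : ∀ i < 6, ∃ t : ON, t * (vv 0 * vv 5) * t⁻¹ = vv i := by
  intro i hi
  interval_cases i
  · exact ⟨_, onm_conj_word _ _ 0 onm_cj0 onm_cj0'⟩
  · exact ⟨_, onm_conj_word _ _ 1 onm_cj1 onm_cj1'⟩
  · exact ⟨_, onm_conj_word _ _ 2 onm_cj2 onm_cj2'⟩
  · exact ⟨_, onm_conj_word _ _ 3 onm_cj3 onm_cj3'⟩
  · exact ⟨_, onm_conj_word _ _ 4 onm_cj4 onm_cj4'⟩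
  · exact ⟨_, onm_conj_word _ _ 5 onm_cj5 onm_cj5'⟩

/-! ### changing the lifts by central elements -/

/-- the number of letters `a, ..., f` of a word -/
def cntA : List ℕ → ℕ
  | [] => 0
  | s :: w => (if s < 6 then 1 else 0) + cntA w

/-- the number of letters `g`, `g⁻¹` of a word -/
def cntG : List ℕ → ℕ
  | [] => 0
  | s :: w => (if s < 6 then 0 else if s < 8 then 1 else 0) + cntG w

/-- the lifts of `a, ..., f` multiplied by `ζ`, those of `g` and its inverse by `η` -/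
def twist {K : Type*} [Group K] (f : ℕ → K) (ζ η : K) : ℕ → K :=
  fun s => if s < 6 then f s * ζ else if s < 8 then f s * η else f s

theorem wprod_twist {K : Type*} [Group K] (f : ℕ → K) (ζ η : K) (hζ : ∀ x : K, x * ζ = ζ * x)
    (hη : ∀ x : K, x * η = η * x) (w : List ℕ) :
    wprod (twist f ζ η) w = wprod f w * (ζ ^ cntA w * η ^ cntG w) := by
  induction w with
  | nil => simp [wprod_nil, cntA, cntG]
  | cons s w ih =>
    rw [wprod_cons, wprod_cons, ih]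
    by_cases h6 : s < 6
    · have e1 : twist f ζ η s = f s * ζ := by simp [twist, h6]
      have e2 : cntA (s :: w) = cntA w + 1 := by simp [cntA, h6, Nat.add_comm]
      have e3 : cntG (s :: w) = cntG w := by simp [cntG, h6]
      rw [e1, e2, e3, pow_succ]
      have c1 : ζ * wprod f w = wprod f w * ζ := (hζ _).symm
      have c2 : ζ * ζ ^ cntA w = ζ ^ cntA w * ζ := (hζ _).symm
      calc f s * ζ * (wprod f w * (ζ ^ cntA w * η ^ cntG w))
          = f s * (ζ * wprod f w) * (ζ ^ cntA w * η ^ cntG w) := by group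
        _ = f s * (wprod f w * ζ) * (ζ ^ cntA w * η ^ cntG w) := by rw [c1]
        _ = f s * wprod f w * ((ζ * ζ ^ cntA w) * η ^ cntG w) := by group
        _ = f s * wprod f w * (ζ ^ cntA w * ζ * η ^ cntG w) := by rw [c2]
    · by_cases h8 : s < 8
      · have e1 : twist f ζ η s = f s * η := by simp [twist, h6, h8]
        have e2 : cntA (s :: w) = cntA w := by simp [cntA, h6]
        have e3 : cntG (s :: w) = cntG w + 1 := by simp [cntG, h6, h8, Nat.add_comm]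
        rw [e1, e2, e3, pow_succ]
        have c1 : η * wprod f w = wprod f w * η := (hη _).symm
        have c2 : η * (ζ ^ cntA w * η ^ cntG w) = (ζ ^ cntA w * η ^ cntG w) * η := (hη _).symm
        calc f s * η * (wprod f w * (ζ ^ cntA w * η ^ cntG w))
            = f s * (η * wprod f w) * (ζ ^ cntA w * η ^ cntG w) := by group
          _ = f s * (wprod f w * η) * (ζ ^ cntA w * η ^ cntG w) := by rw [c1]
          _ = f s * wprod f w * (η * (ζ ^ cntA w * η ^ cntG w)) := by group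
          _ = f s * wprod f w * (ζ ^ cntA w * η ^ cntG w * η) := by rw [c2]
          _ = f s * wprod f w * (ζ ^ cntA w * (η ^ cntG w * η)) := by group
      · have e1 : twist f ζ η s = f s := by simp [twist, h6, h8]
        have e2 : cntA (s :: w) = cntA w := by simp [cntA, h6]
        have e3 : cntG (s :: w) = cntG w := by simp [cntG, h6, h8]
        rw [e1, e2, e3, mul_assoc]

/-- powers of an element of square one -/
theorem pow_of_sq_one {K : Type*} [Group K] (x : K) (h : x * x = 1) (n : ℕ) : x ^ n = x ^ (n % 2) := by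
  apply pow_eq_pow_mod
  rw [pow_two]
  exact h

/-- a word with evenly many letters of both kinds keeps its value -/
theorem wprod_twist_even {K : Type*} [Group K] (f : ℕ → K) (ζ η : K) (hζ : ∀ x : K, x * ζ = ζ * x)
    (hη : ∀ x : K, x * η = η * x) (hζ2 : ζ * ζ = 1) (hη2 : η * η = 1) (w : List ℕ)
    (hA : cntA w % 2 = 0) (hG : cntG w % 2 = 0) : wprod (twist f ζ η) w = wprod f w := by
  rw [wprod_twist f ζ η hζ hη, pow_of_sq_one ζ hζ2, pow_of_sq_one η hη2, hA, hG, pow_zero, pow_zero,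
    mul_one, mul_one]

/-! ### the lifts from a section over `Hs` -/

/-- the generators `a, ..., f` as elements of `Hs` -/
theorem onm_gen_mem : ∀ i < 6, vv i ∈ Hs := by
  intro i hi
  rw [hH]
  apply Subgroup.subset_closure
  refine ⟨[i], ?_, ?_⟩
  · interval_cases i <;> decide
  · rw [wprod_cons, wprod_nil, mul_one]

/-- the letters `a, ..., f` in `Hs` -/
noncomputable def vHs : ℕ → Hs := fun i => if h : i < 6 then ⟨vv i, onm_gen_mem i h⟩ else 1

theorem vHs_coe (i : ℕ) (h : i < 6) : ((vHs i : Hs) : ON) = vv i := by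
  simp [vHs, h]

/-- words in `a, ..., f` which hold in the O'Nan group hold for the images of the letters under a section -/
theorem onm_section_word {Γ : Type*} [Group Γ] (s : Hs →* Γ) (f : ℕ → Γ) (hf : ∀ i < 6, f i = s (vHs i))
    (w : List ℕ) (hw : ∀ x ∈ w, x < 6) (h1 : wprod vv w = 1) : wprod f w = 1 := by
  have e1 : wprod f w = wprod (fun i => s (vHs i)) w := wprod_congr_lt f _ 6 hf w hw
  have e2 : wprod (fun i => s (vHs i)) w = s (wprod vHs w) := (map_wprod s vHs w).symm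
  have e3 : Hs.subtype (wprod vHs w) = wprod vv w := by
    rw [map_wprod]
    exact wprod_congr_lt _ _ 6 (fun i hi => vHs_coe i hi) w hw
  have e4 : wprod vHs w = 1 := by
    apply Hs.subtype_injective
    rw [e3, h1, map_one]
  rw [e1, e2, e4, map_one]

/-! ### no kernel of order two -/

theorem onm_no_two {Γ : Type} [Group Γ] [Finite Γ] (σ : Γ →* ON) (hσ : Cfsg.IsStemExtension σ) :
    Nat.card σ.ker ≠ 2 := by
  intro h2
  have hσ' := hσ
  obtain ⟨hs, hc, hder⟩ := hσ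
  obtain ⟨z, hK⟩ := ker2_of_card hc h2
  have hK' := hK
  obtain ⟨hz1, hzz, hσz, hzall, hzc⟩ := hK
  have hk2 : ∀ k ∈ σ.ker, k * k = 1 := by
    intro k hk
    rcases hzall k (MonoidHom.mem_ker.mp hk) with e | e
    · rw [e, mul_one]
    · rw [e, hzz]
  have hkc : ∀ k ∈ σ.ker, ∀ x : Γ, x * k = k * x := fun k hk => Subgroup.mem_center_iff.mp (hc hk)
  obtain ⟨N, hNH, hnorm, hidx, hsqN, ⟨i, hi, hiN⟩, hperf, hM, -⟩ := onm_subN
  have hD := Cfsg.Agent.Lib.helper17.ONM.onm_restrict σ hs hc N hperf 3 (by norm_num) hM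
    (by rw [h2]; decide)
  -- `a f` lies in `N`
  have haf : vv 0 * vv 5 ∈ N := by
    have e : vv 0 * vv 5 = wprod vv [2, 3, 2, 3] * wprod vv [2, 3, 2, 3] := by
      have h := on_word [0, 5, 3, 2, 3, 2, 3, 2, 3, 2] (by decide)
      have h' : wprod vv ([0, 5] ++ [3, 2, 3, 2, 3, 2, 3, 2]) = 1 := h
      rw [wprod_append] at h'
      have e1 : wprod vv [0, 5] = vv 0 * vv 5 := by rw [wprod_cons, wprod_cons, wprod_nil, mul_one]
      have e2 : wprod vv [3, 2, 3, 2, 3, 2, 3, 2] = (wprod vv [2, 3, 2, 3] * wprod vv [2, 3, 2, 3])⁻¹ := by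
        simp only [wprod_cons, wprod_nil, mul_one, mul_inv_rev, on_inv 2 (by norm_num),
          on_inv 3 (by norm_num), mul_assoc]
      rw [e1, e2, mul_inv_eq_one] at h'
      exact h'
    rw [e]
    apply hsqN
    simp only [wprod_cons, wprod_nil, mul_one]
    exact Hs.mul_mem (onm_gen_mem 2 (by norm_num)) (Hs.mul_mem (onm_gen_mem 3 (by norm_num))
      (Hs.mul_mem (onm_gen_mem 2 (by norm_num)) (onm_gen_mem 3 (by norm_num))))
  have haf2 : (vv 0 * vv 5) * (vv 0 * vv 5) = 1 := by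
    have h := on_word [0, 5, 0, 5] (by decide)
    rw [wprod_cons, wprod_cons, wprod_cons, wprod_cons, wprod_nil, mul_one] at h
    rw [mul_assoc]
    exact h
  have hqaf : QInv σ (vv 0 * vv 5) := onm_qinv_of_mem σ hs hK' N hperf hD _ haf haf2
  -- the generator outside `N`
  have hqi : QInv σ (vv i) := by
    obtain ⟨t, ht⟩ := onm_gen_conj i hi
    rw [← ht]
    exact qinv_conj hs hqaf t
  obtain ⟨s, hs'⟩ := onm_section σ hs hK' Hs N hNH hnorm hperf hD (vv i) (onm_gen_mem i hi) hiN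
    (on_sq i hi) (fun h hh => hidx h hh (vv i) (onm_gen_mem i hi) hiN) hqi
  -- the first lifts
  obtain ⟨G0, hG0⟩ := hs (vv 6)
  set f₀ := let8 (s (vHs 0)) (s (vHs 1)) (s (vHs 2)) (s (vHs 3)) (s (vHs 4)) (s (vHs 5)) G0 with hf₀
  have hf₀s : ∀ j < 6, f₀ j = s (vHs j) := by
    intro j hj
    interval_cases j <;> rfl
  have hσf₀ : ∀ j < 8, σ (f₀ j) = vv j := by
    intro j hj
    by_cases h6 : j < 6
    · rw [hf₀s j h6, hs', vHs_coe j h6]
    · have : j = 6 ∨ j = 7 := by omega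
      rcases this with rfl | rfl
      · exact hG0
      · show σ G0⁻¹ = vv 7
        rw [map_inv, hG0, on_v7]
  have hf₀ge : ∀ j, ¬ j < 8 → f₀ j = 1 := by
    intro j hj
    have : 8 ≤ j := Nat.le_of_not_lt hj
    obtain ⟨t, rfl⟩ := Nat.exists_eq_add_of_le this
    rw [Nat.add_comm]
    rfl
  have hword₀ : ∀ w : List ℕ, (∀ x ∈ w, x < 6) → wprod vv w = 1 → wprod f₀ w = 1 :=
    fun w hw h1 => onm_section_word s f₀ hf₀s w hw h1
  -- the corrections
  set ζ := wprod f₀ [6, 1, 2, 6, 2, 1, 6, 1, 2, 6, 2] with hζdef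
  set ξ := wprod f₀ [1, 2, 3, 6, 1, 2, 3, 6, 1, 2, 3, 6, 1, 2, 3, 6, 1, 2, 3, 6] with hξdef
  have hζk : ζ ∈ σ.ker := by
    rw [MonoidHom.mem_ker, hζdef, map_wprod_lift σ f₀ hσf₀ _ (by decide)]
    exact on_word _ (by decide)
  have hξk : ξ ∈ σ.ker := by
    rw [MonoidHom.mem_ker, hξdef, map_wprod_lift σ f₀ hσf₀ _ (by decide)]
    exact on_word _ (by decide)
  set η := ξ * ζ with hηdef
  have hηk : η ∈ σ.ker := σ.ker.mul_mem hξk hζk
  have cζ := hkc ζ hζk
  have cη := hkc η hηk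
  have cξ := hkc ξ hξk
  have ζ2 := hk2 ζ hζk
  have η2 := hk2 η hηk
  have ξ2 := hk2 ξ hξk
  set f := twist f₀ ζ η with hf
  have hσf : ∀ j < 8, σ (f j) = vv j := by
    intro j hj
    by_cases h6 : j < 6
    · have : f j = f₀ j * ζ := by simp [hf, twist, h6]
      rw [this, map_mul, MonoidHom.mem_ker.mp hζk, mul_one, hσf₀ j hj]
    · have : f j = f₀ j * η := by simp [hf, twist, h6, hj]
      rw [this, map_mul, MonoidHom.mem_ker.mp hηk, mul_one, hσf₀ j hj]
  have hf7 : f 7 = (f 6)⁻¹ := by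
    have e7 : f 7 = G0⁻¹ * η := by simp [hf, twist, hf₀, let8]
    have e6 : f 6 = G0 * η := by simp [hf, twist, hf₀, let8]
    rw [e7, e6, mul_inv_rev, inv_eq_of_mul_eq_one_left η2]
    exact cη _
  have hfge : ∀ j, ¬ j < 8 → f j = 1 := by
    intro j hj
    have h6 : ¬ j < 6 := by omega
    have : f j = f₀ j := by simp [hf, twist, h6, hj]
    rw [this]
    exact hf₀ge j hj
  have heven : ∀ w : List ℕ, cntA w % 2 = 0 → cntG w % 2 = 0 → wprod f w = wprod f₀ w :=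
    fun w hA hG => wprod_twist_even f₀ ζ η cζ cη ζ2 η2 w hA hG
  have hsq : ∀ j < 6, f j * f j = 1 := by
    intro j hj
    have h := heven [j, j] (by interval_cases j <;> rfl) (by interval_cases j <;> rfl)
    rw [wprod_cons, wprod_cons, wprod_nil, mul_one] at h
    rw [h]
    exact hword₀ [j, j] (by intro x hx; simp at hx; omega)
      (by rw [wprod_cons, wprod_cons, wprod_nil, mul_one]; exact on_sq j hj)
  have hcox : ∀ b ∈ coxWords ON.edges ONPres.gen 6, wprod f b = 1 := by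
    intro b hb
    have hA : ∀ b ∈ coxWords ON.edges ONPres.gen 6, cntA b % 2 = 0 ∧ cntG b % 2 = 0 := by decide
    rw [heven b (hA b hb).1 (hA b hb).2]
    apply hword₀ b
    · intro x hx
      have : lettersK 6 (coxWords ON.edges ONPres.gen 6) = true := by decide
      exact lettersK_lt this hb hx
    · exact on_word b (List.mem_append_left _ hb)
  have hx2 : wprod f [0, 5, 3, 2, 3, 2, 3, 2, 3, 2] = 1 := by
    rw [heven _ (by rfl) (by rfl)]
    exact hword₀ _ (by decide) (on_word _ (by decide))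
  have hx6 : wprod f [6, 1, 2, 6, 2, 1, 6, 1, 2, 6, 2] = 1 := by
    rw [hf, wprod_twist f₀ ζ η cζ cη, pow_of_sq_one ζ ζ2, pow_of_sq_one η η2]
    have eA : cntA [6, 1, 2, 6, 2, 1, 6, 1, 2, 6, 2] % 2 = 1 := by rfl
    have eG : cntG [6, 1, 2, 6, 2, 1, 6, 1, 2, 6, 2] % 2 = 0 := by rfl
    rw [eA, eG, pow_one, pow_zero, mul_one]
    exact ζ2
  have hx5 : wprod f [1, 2, 3, 6, 1, 2, 3, 6, 1, 2, 3, 6, 1, 2, 3, 6, 1, 2, 3, 6] = 1 := by
    rw [hf, wprod_twist f₀ ζ η cζ cη, pow_of_sq_one ζ ζ2, pow_of_sq_one η η2]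
    have eA : cntA [1, 2, 3, 6, 1, 2, 3, 6, 1, 2, 3, 6, 1, 2, 3, 6, 1, 2, 3, 6] % 2 = 1 := by rfl
    have eG : cntG [1, 2, 3, 6, 1, 2, 3, 6, 1, 2, 3, 6, 1, 2, 3, 6, 1, 2, 3, 6] % 2 = 1 := by rfl
    rw [eA, eG, pow_one, pow_one]
    show ξ * (ζ * (ξ * ζ)) = 1
    calc ξ * (ζ * (ξ * ζ)) = ξ * ((ζ * ξ) * ζ) := by group
      _ = ξ * ((ξ * ζ) * ζ) := by rw [cξ ζ]
      _ = (ξ * ξ) * (ζ * ζ) := by group
      _ = 1 := by rw [ξ2, ζ2, mul_one]
  obtain ⟨h1, hx3, hx4, hx7⟩ := onm_two_core σ hc hk2 f hσf hf7 hfge hsq hcox hx2 hx5 hx6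
  have hx : ∀ b ∈ ONPres.extraWords, wprod f b = 1 := by
    intro b hb
    simp only [ONPres.extraWords, List.mem_cons, List.not_mem_nil, or_false] at hb
    rcases hb with rfl | rfl | rfl | rfl | rfl | rfl | rfl
    · exact h1
    · exact hx2
    · exact hx3
    · exact hx4
    · exact hx5
    · exact hx6
    · exact hx7
  obtain ⟨hinv, hbase⟩ := onm_base_of_exact f hf7 hsq hcox hx
  have htriv := onm_split σ hσ' f hinv hσf hbase
  exact hz1 (htriv z (MonoidHom.mem_ker.mpr hσz))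

end Cfsg.Agent.Lib.helper17.ONM
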