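import Cfsg.Agent.Lib.helper17.ONM.Pieces

set_option autoImplicit false

/-! Lifts of the generators of the O'Nan group to a stem extension with kernel of odd order (helper17). -/

namespace Cfsg.Agent.Lib.helper17.ONM

open Cfsg.Spor Cfsg.Agent.Lib.Helper12.TC Cfsg.Agent.Lib.Helper12.TCG

local notation "vv" => ONPres.v

theorem on_sq (s : ℕ) (hs : s < 6) : vv s * vv s = 1 := by
  have h := ONPres.hbase [s, s] (by interval_cases s <;> decide)
  rwa [wprod_cons, wprod_cons, wprod_nil, mul_one] at h

theorem on_inv (s : ℕ) (hs : s < 6) : (vv s)⁻¹ = vv s := inv_eq_of_mul_eq_one_left (on_sq s hs)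

theorem on_v7 : vv 7 = (vv 6)⁻¹ := ONPres.hvinv 6 (by norm_num)

theorem on_word (b : List ℕ) (hb : b ∈ ONPres.baseL) : wprod vv b = 1 := ONPres.hbase b hb

/-- words in letters below a bound depend on the values of these letters only -/
theorem wprod_congr_lt {K : Type*} [Group K] (f f' : ℕ → K) (n : ℕ) (h : ∀ s < n, f s = f' s)
    (w : List ℕ) (hw : ∀ s ∈ w, s < n) : wprod f w = wprod f' w := by
  induction w with
  | nil => rfl
  | cons s w ih =>
    rw [wprod_cons, wprod_cons, h s (hw s List.mem_cons_self),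
      ih (fun t ht => hw t (List.mem_cons_of_mem _ ht))]

/-- the image of a word under a homomorphism -/
theorem map_wprod {K L : Type*} [Group K] [Group L] (σ : K →* L) (f : ℕ → K) (w : List ℕ) :
    σ (wprod f w) = wprod (fun s => σ (f s)) w := by
  induction w with
  | nil => rw [wprod_nil, wprod_nil, map_one]
  | cons s w ih => rw [wprod_cons, wprod_cons, map_mul, ih]

/-- the image of a word in lifts of the letters -/
theorem map_wprod_lift {Γ : Type*} [Group Γ] (σ : Γ →* ON) (f : ℕ → Γ) (hσf : ∀ s < 8, σ (f s) = vv s)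
    (w : List ℕ) (hw : ∀ s ∈ w, s < 8) : σ (wprod f w) = wprod vv w := by
  rw [map_wprod]
  exact wprod_congr_lt _ _ 8 hσf w hw

/-- the letters of a Coxeter word -/
theorem coxWord_letters (m i j : ℕ) : ∀ s ∈ coxWord m i j, s = i ∨ s = j := by
  induction m with
  | zero => intro s hs; exact absurd hs List.not_mem_nil
  | succ m ih =>
    intro s hs
    have e : coxWord (m+1) i j = i :: j :: coxWord m i j := rfl
    rw [e] at hs
    rcases List.mem_cons.mp hs with h1 | h1
    · exact Or.inl h1
    · rcases List.mem_cons.mp h1 with h2 | h2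
      · exact Or.inr h2
      · exact ih s h2

/-- the Coxeter words hold for involutive lifts when the kernel is central of odd order -/
theorem onm_cox_of_odd {Γ : Type*} [Group Γ] [Finite Γ] (σ : Γ →* ON)
    (hc : σ.ker ≤ Subgroup.center Γ) (hodd : Odd (Nat.card σ.ker)) (f : ℕ → Γ)
    (hσf : ∀ s < 6, σ (f s) = vv s) (hsq : ∀ s < 6, f s * f s = 1) :
    ∀ b ∈ coxWords ON.edges ONPres.gen 6, wprod f b = 1 := by
  intro b hb
  have hb' := hb
  obtain ⟨j, hj, hb2⟩ := List.mem_flatMap.mp hb
  obtain ⟨i, hi, rfl⟩ := List.mem_map.mp hb2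
  have hj' : j < 6 := List.mem_range.mp hj
  have hi' : i < j := List.mem_range.mp hi
  rw [wprod_coxWord]
  apply onm_odd_dih σ hc hodd (f i) (f j) (hsq i (by omega)) (hsq j hj')
  rw [hσf i (by omega), hσf j hj', ← wprod_coxWord]
  exact on_word _ (List.mem_append_left _ hb')

end Cfsg.Agent.Lib.helper17.ONM
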