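import Cfsg.Agent.Lib.Helper12.TCG.Parts

/-!
Membership in a subgroup from a coset enumeration certificate in the format of helper12
(`Cfsg.Agent.Lib.Helper12.TCG`): the facts of a verified certificate are valid, and a valid fact from the
first label to itself says that its letter lies in the subgroup.  Only the facts needed for the targets
have to be in the certificate, no final table (helper17, after `Cfsg.Agent.Lib.Helper3.TCUpper.index_le`).
-/

set_option autoImplicit false

namespace Cfsg.Agent.Lib.helper17.ONM

open Cfsg.Agent.Lib.Helper12.TC Cfsg.Agent.Lib.Helper12.TCG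

set_option maxHeartbeats 1000000 in
/-- the facts of a verified certificate are valid -/
theorem onm_valid_all {G : Type*} [Group G] (v : ℕ → G) (g IV : ℕ) (hg : g ≤ 15)
    (hiv : ivK IV g = true)
    (hvinv : ∀ s < g, v (invS IV s) = (v s)⁻¹) (hvge : ∀ s, ¬ s < g → v s = 1)
    (baseL : List (List ℕ)) (hbase : ∀ b ∈ baseL, wprod v b = 1) (hlet : lettersK g baseL = true)
    (sw : List (List ℕ)) (hletsw : lettersK g sw = true) (H : Subgroup G)
    (hswH : ∀ w ∈ sw, wprod v w ∈ H)
    (F : ℕ → ℕ) (RW : ℕ) (rotW : List (ℕ × ℕ))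
    (chunks : List (ℕ × List ℕ)) (D K R0 R : ℕ)
    (hdefs : defsK F D = true)
    (hchunks : ∀ c ∈ chunks, chunkG IV F RW R0 c.2 c.1 = true)
    (hcover : coverK D K chunks = true)
    (hrelc : relCheckK RW R0 R baseL rotW sw = true) :
    ∀ k < K, Valid H v F k := by
  have hv15 : v 15 = 1 := hvge 15 (by omega)
  have hiv15 : invS IV 15 = 15 := ivK_ge hiv (by omega) (by decide)
  have hinv : ∀ s, s < 16 → v (invS IV s) = (v s)⁻¹ := by
    intro s hs16
    by_cases hs : s < g
    · exact hvinv s hs
    · rw [ivK_ge hiv hs hs16, hvge s hs, inv_one]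
  have hlet15 : ∀ L : List (List ℕ), lettersK g L = true → lettersK 15 L = true := by
    intro L hL
    refine (allListK_iff L _).mpr (fun w hw => (allListK_iff w _).mpr (fun s hs => ?_))
    have : s < g := lettersK_lt hL hw hs
    exact Nat.ble_eq_true_of_le (by omega)
  obtain ⟨hrel1, hrel2⟩ := relCheck_sound H v hrelc (hlet15 _ hlet) (hlet15 _ hletsw) hbase hswH
  intro k
  induction k using Nat.strong_induction_on with
  | _ k ih =>
    intro hk
    by_cases hkD : k < D
    · exact defsK_sound H v F hdefs hkD
    · exact chunks_valid H v F IV hv15 hinv hiv15 hrel1 hrel2 chunks K D hchunks hcover k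
        (Nat.le_of_not_lt hkD) hk (fun j hj => ih j hj (lt_trans hj hk))

/-- a valid fact from the first label to itself -/
theorem onm_mem_of_valid {G : Type*} [Group G] (v : ℕ → G) (H : Subgroup G) (F : ℕ → ℕ) (k s : ℕ)
    (hk : Valid H v F k) (hsrc : fSrc (F k) = 0) (hdst : fDst (F k) = 0) (hsym : fSym (F k) = s) :
    v s ∈ H := by
  unfold Valid at hk
  rw [hsrc, hdst, hsym, tau_zero, one_mul, inv_one, mul_one] at hk
  exact hk

end Cfsg.Agent.Lib.helper17.ONM
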