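import Cfsg.Agent.Lib.helper17.ONM.Lifts
import Cfsg.Agent.Lib.helper17.ONM.P3A.Main

set_option autoImplicit false

namespace Cfsg.Agent.Lib.helper17.ONM

open Cfsg.Spor Cfsg.Agent.Lib.Helper12.TC Cfsg.Agent.Lib.Helper12.TCG

local notation "vv" => ONPres.v

/-- a word saying that two letters commute -/
theorem cz_word {K : Type*} [Group K] (v : ℕ → K) (x z x' z' : ℕ) (hx : v x' = (v x)⁻¹)
    (hz : v z' = (v z)⁻¹) (hc : v x * v z = v z * v x) : wprod v [x, z, x', z'] = 1 := by
  rw [wprod_cons, wprod_cons, wprod_cons, wprod_cons, wprod_nil, mul_one, hx, hz, ← mul_assoc, hc]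
  group

/-- a word of a letter and its inverse -/
theorem pr_word {K : Type*} [Group K] (v : ℕ → K) (x x' : ℕ) (hx : v x' = (v x)⁻¹) :
    wprod v [x, x'] = 1 := by
  rw [wprod_cons, wprod_cons, wprod_nil, mul_one, hx, mul_inv_cancel]

/-- lifts of commuting elements commute as soon as some lifts do, the kernel being central -/
theorem comm_of_lifts {Γ G : Type*} [Group Γ] [Group G] (σ : Γ →* G) (hc : σ.ker ≤ Subgroup.center Γ)
    (a a' b b' : Γ) (ha : σ a = σ a') (hb : σ b = σ b') (h : a' * b' = b' * a') : a * b = b * a := by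
  have hk1 : a'⁻¹ * a ∈ σ.ker := by rw [MonoidHom.mem_ker, map_mul, map_inv, ha, inv_mul_cancel]
  have hk2 : b'⁻¹ * b ∈ σ.ker := by rw [MonoidHom.mem_ker, map_mul, map_inv, hb, inv_mul_cancel]
  have c1 := Subgroup.mem_center_iff.mp (hc hk1)
  have c2 := Subgroup.mem_center_iff.mp (hc hk2)
  have ea : a = a' * (a'⁻¹ * a) := by group
  have eb : b = b' * (b'⁻¹ * b) := by group
  set κ := a'⁻¹ * a
  set μ := b'⁻¹ * b
  rw [ea, eb]
  calc a' * κ * (b' * μ) = a' * (κ * b') * μ := by group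
    _ = a' * (b' * κ) * μ := by rw [c1 b']
    _ = (a' * b') * (κ * μ) := by group
    _ = (b' * a') * (κ * μ) := by rw [h]
    _ = b' * (a' * μ) * κ := by rw [c2 κ]; group
    _ = b' * (μ * a') * κ := by rw [c2 a']
    _ = b' * μ * (a' * κ) := by group

/-- the letters for the first certificate: `8, 9` for `z₅` and its inverse, `10, 11` for `z₆` and its inverse -/
def let12 {K : Type*} [Group K] (f : ℕ → K) (z5 z6 : K) : ℕ → K
  | 8 => z5
  | 9 => z5⁻¹
  | 10 => z6
  | 11 => z6⁻¹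
  | s => f s

theorem let12_lt {K : Type*} [Group K] (f : ℕ → K) (z5 z6 : K) : ∀ s < 8, let12 f z5 z6 s = f s := by
  intro s hs
  interval_cases s <;> rfl

theorem let12_ge {K : Type*} [Group K] (f : ℕ → K) (z5 z6 : K) (hf : ∀ s, ¬ s < 8 → f s = 1) :
    ∀ s, ¬ s < 12 → let12 f z5 z6 s = 1 := by
  intro s hs
  have h12 : 12 ≤ s := Nat.le_of_not_lt hs
  obtain ⟨t, rfl⟩ := Nat.exists_eq_add_of_le h12
  have e : let12 f z5 z6 (12 + t) = f (12 + t) := by
    rw [Nat.add_comm]
    rfl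
  rw [e]
  exact hf _ (by omega)

/-- the first step for the kernel of order three: if lifts of `g b g` and `a b` commute, the words of `(b c d g)^5`
and `g b g^c g^b g^c` hold for the lifts -/
theorem onm_three_a {Γ : Type*} [Group Γ] (σ : Γ →* ON) (hc : σ.ker ≤ Subgroup.center Γ)
    (h3 : ∀ k ∈ σ.ker, k ^ 3 = 1) (f : ℕ → Γ)
    (hσf : ∀ s < 8, σ (f s) = vv s) (hf7 : f 7 = (f 6)⁻¹) (hfge : ∀ s, ¬ s < 8 → f s = 1)
    (hsq : ∀ s < 6, f s * f s = 1)
    (hcox : ∀ b ∈ coxWords ON.edges ONPres.gen 6, wprod f b = 1)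
    (h1 : wprod f [0, 5, 7, 7] = 1) (h2 : wprod f [0, 5, 3, 2, 3, 2, 3, 2, 3, 2] = 1)
    (hx3 : wprod f [2, 7, 3, 7, 3, 2, 3, 6, 3, 6] = 1) (hx4 : wprod f [3, 7, 2, 7, 2, 3, 2, 6, 2, 6] = 1)
    (hxy : wprod f [6, 1, 6] * wprod f [0, 1] = wprod f [0, 1] * wprod f [6, 1, 6]) :
    wprod f [1, 2, 3, 6, 1, 2, 3, 6, 1, 2, 3, 6, 1, 2, 3, 6, 1, 2, 3, 6] = 1 ∧
      wprod f [6, 1, 2, 6, 2, 1, 6, 1, 2, 6, 2] = 1 := by
  set z5 := wprod f [1, 2, 3, 6, 1, 2, 3, 6, 1, 2, 3, 6, 1, 2, 3, 6, 1, 2, 3, 6] with hz5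
  set z6 := wprod f [6, 1, 2, 6, 2, 1, 6, 1, 2, 6, 2] with hz6
  have hz5k : z5 ∈ σ.ker := by
    rw [MonoidHom.mem_ker, hz5, map_wprod_lift σ f hσf _ (by decide)]
    exact on_word _ (by decide)
  have hz6k : z6 ∈ σ.ker := by
    rw [MonoidHom.mem_ker, hz6, map_wprod_lift σ f hσf _ (by decide)]
    exact on_word _ (by decide)
  have c5 : ∀ x : Γ, x * z5 = z5 * x := Subgroup.mem_center_iff.mp (hc hz5k)
  have c6 : ∀ x : Γ, x * z6 = z6 * x := Subgroup.mem_center_iff.mp (hc hz6k)
  set v := let12 f z5 z6 with hv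
  have hvlt : ∀ s < 8, v s = f s := let12_lt f z5 z6
  have hw8 : ∀ w : List ℕ, (∀ s ∈ w, s < 8) → wprod v w = wprod f w :=
    fun w hw => wprod_congr_lt v f 8 hvlt w hw
  have hvinv : ∀ s < 12, v (invS P3A.cIV s) = (v s)⁻¹ := by
    intro s hs
    interval_cases s
    · exact (inv_eq_of_mul_eq_one_left (hsq 0 (by norm_num))).symm
    · exact (inv_eq_of_mul_eq_one_left (hsq 1 (by norm_num))).symm
    · exact (inv_eq_of_mul_eq_one_left (hsq 2 (by norm_num))).symm
    · exact (inv_eq_of_mul_eq_one_left (hsq 3 (by norm_num))).symm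
    · exact (inv_eq_of_mul_eq_one_left (hsq 4 (by norm_num))).symm
    · exact (inv_eq_of_mul_eq_one_left (hsq 5 (by norm_num))).symm
    · exact hf7
    · show f 6 = (f 7)⁻¹
      rw [hf7, inv_inv]
    · rfl
    · exact (inv_inv z5).symm
    · rfl
    · exact (inv_inv z6).symm
  have hi : ∀ s < 12, ∀ s' : ℕ, s' = invS P3A.cIV s → v s' = (v s)⁻¹ := by
    intro s hs s' e
    rw [e]
    exact hvinv s hs
  have hcen8 : ∀ s : ℕ, v s * v 8 = v 8 * v s := fun s => c5 (v s)
  have hcen10 : ∀ s : ℕ, v s * v 10 = v 10 * v s := fun s => c6 (v s)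
  have hbase : ∀ b ∈ P3A.baseL, wprod v b = 1 := by
    intro b hb
    rcases List.mem_append.mp hb with h | h
    · have hl : ∀ s ∈ b, s < 8 := by
        intro s hs
        have : lettersK 6 (coxWords ON.edges ONPres.gen 6) = true := by decide
        have := lettersK_lt this h hs
        omega
      rw [hw8 b hl]
      exact hcox b h
    rcases List.mem_append.mp h with h | h
    · simp only [P3A.xWords, List.mem_cons, List.not_mem_nil, or_false] at h
      rcases h with rfl | rfl | rfl | rfl | rfl | rfl | rfl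
      · rw [hw8 _ (by decide)]; exact h1
      · rw [hw8 _ (by decide)]; exact h2
      · rw [hw8 _ (by decide)]; exact hx3
      · rw [hw8 _ (by decide)]; exact hx4
      · show wprod v ([1, 2, 3, 6, 1, 2, 3, 6, 1, 2, 3, 6, 1, 2, 3, 6, 1, 2, 3, 6] ++ [9]) = 1
        have e9 : wprod v [9] = z5⁻¹ := by rw [wprod_cons, wprod_nil, mul_one]; rfl
        rw [wprod_append, hw8 _ (by decide), e9]
        exact mul_inv_cancel z5
      · show wprod v ([6, 1, 2, 6, 2, 1, 6, 1, 2, 6, 2] ++ [11]) = 1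
        have e11 : wprod v [11] = z6⁻¹ := by rw [wprod_cons, wprod_nil, mul_one]; rfl
        rw [wprod_append, hw8 _ (by decide), e11]
        exact mul_inv_cancel z6
      · rw [hw8 _ (by decide)]
        show wprod f ([7, 1, 7] ++ ([1, 0] ++ ([6, 1, 6] ++ [0, 1]))) = 1
        rw [wprod_append, wprod_append, wprod_append]
        have e1 : wprod f [7, 1, 7] = (wprod f [6, 1, 6])⁻¹ := by
          simp only [wprod_cons, wprod_nil, mul_one, hf7, mul_inv_rev,
            inv_eq_of_mul_eq_one_left (hsq 1 (by norm_num)), mul_assoc]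
        have e2 : wprod f [1, 0] = (wprod f [0, 1])⁻¹ := by
          simp only [wprod_cons, wprod_nil, mul_one, mul_inv_rev,
            inv_eq_of_mul_eq_one_left (hsq 1 (by norm_num)), inv_eq_of_mul_eq_one_left (hsq 0 (by norm_num))]
        rw [e1, e2, hxy]
        group
    rcases List.mem_append.mp h with h | h
    · simp only [P3A.czWords, List.mem_cons, List.not_mem_nil, or_false] at h
      rcases h with rfl | rfl | rfl | rfl | rfl | rfl | rfl | rfl | rfl | rfl | rfl | rfl | rfl | rfl | rfl | rfl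
      · show z5 * (z5 * (z5 * 1)) = 1
        have := h3 z5 hz5k
        rw [pow_succ, pow_two] at this
        rw [mul_one, ← mul_assoc]; exact this
      · exact cz_word v 0 8 0 9 (hi 0 (by norm_num) 0 (by decide)) (hi 8 (by norm_num) 9 (by decide)) (hcen8 0)
      · exact cz_word v 1 8 1 9 (hi 1 (by norm_num) 1 (by decide)) (hi 8 (by norm_num) 9 (by decide)) (hcen8 1)
      · exact cz_word v 2 8 2 9 (hi 2 (by norm_num) 2 (by decide)) (hi 8 (by norm_num) 9 (by decide)) (hcen8 2)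
      · exact cz_word v 3 8 3 9 (hi 3 (by norm_num) 3 (by decide)) (hi 8 (by norm_num) 9 (by decide)) (hcen8 3)
      · exact cz_word v 4 8 4 9 (hi 4 (by norm_num) 4 (by decide)) (hi 8 (by norm_num) 9 (by decide)) (hcen8 4)
      · exact cz_word v 5 8 5 9 (hi 5 (by norm_num) 5 (by decide)) (hi 8 (by norm_num) 9 (by decide)) (hcen8 5)
      · exact cz_word v 6 8 7 9 (hi 6 (by norm_num) 7 (by decide)) (hi 8 (by norm_num) 9 (by decide)) (hcen8 6)
      · show z6 * (z6 * (z6 * 1)) = 1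
        have := h3 z6 hz6k
        rw [pow_succ, pow_two] at this
        rw [mul_one, ← mul_assoc]; exact this
      · exact cz_word v 0 10 0 11 (hi 0 (by norm_num) 0 (by decide)) (hi 10 (by norm_num) 11 (by decide)) (hcen10 0)
      · exact cz_word v 1 10 1 11 (hi 1 (by norm_num) 1 (by decide)) (hi 10 (by norm_num) 11 (by decide)) (hcen10 1)
      · exact cz_word v 2 10 2 11 (hi 2 (by norm_num) 2 (by decide)) (hi 10 (by norm_num) 11 (by decide)) (hcen10 2)
      · exact cz_word v 3 10 3 11 (hi 3 (by norm_num) 3 (by decide)) (hi 10 (by norm_num) 11 (by decide)) (hcen10 3)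
      · exact cz_word v 4 10 4 11 (hi 4 (by norm_num) 4 (by decide)) (hi 10 (by norm_num) 11 (by decide)) (hcen10 4)
      · exact cz_word v 5 10 5 11 (hi 5 (by norm_num) 5 (by decide)) (hi 10 (by norm_num) 11 (by decide)) (hcen10 5)
      · exact cz_word v 6 10 7 11 (hi 6 (by norm_num) 7 (by decide)) (hi 10 (by norm_num) 11 (by decide)) (hcen10 6)
    rcases List.mem_append.mp h with h | h
    · simp only [P3A.prWords, List.mem_cons, List.not_mem_nil, or_false] at h
      rcases h with rfl | rfl | rfl | rfl | rfl | rfl | rfl | rfl | rfl | rfl | rfl | rfl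
      · exact pr_word v 0 0 (hi 0 (by norm_num) 0 (by decide))
      · exact pr_word v 1 1 (hi 1 (by norm_num) 1 (by decide))
      · exact pr_word v 2 2 (hi 2 (by norm_num) 2 (by decide))
      · exact pr_word v 3 3 (hi 3 (by norm_num) 3 (by decide))
      · exact pr_word v 4 4 (hi 4 (by norm_num) 4 (by decide))
      · exact pr_word v 5 5 (hi 5 (by norm_num) 5 (by decide))
      · exact pr_word v 6 7 (hi 6 (by norm_num) 7 (by decide))
      · exact pr_word v 7 6 (hi 7 (by norm_num) 6 (by decide))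
      · exact pr_word v 8 9 (hi 8 (by norm_num) 9 (by decide))
      · exact pr_word v 9 8 (hi 9 (by norm_num) 8 (by decide))
      · exact pr_word v 10 11 (hi 10 (by norm_num) 11 (by decide))
      · exact pr_word v 11 10 (hi 11 (by norm_num) 10 (by decide))
    · rw [List.mem_singleton.mp h]; rfl
  -- the subgroup generated by the lifts of `a, ..., f`
  set H : Subgroup Γ := Subgroup.closure {y : Γ | ∃ s < 6, y = f s} with hH
  have hswH : ∀ w ∈ P3A.sw, wprod v w ∈ H := by
    intro w hw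
    simp only [P3A.sw, List.mem_cons, List.not_mem_nil, or_false] at hw
    rcases hw with rfl | rfl | rfl | rfl | rfl | rfl
    all_goals
      rw [wprod_cons, wprod_nil, mul_one]
      apply Subgroup.subset_closure
    · exact ⟨0, by norm_num, rfl⟩
    · exact ⟨1, by norm_num, rfl⟩
    · exact ⟨2, by norm_num, rfl⟩
    · exact ⟨3, by norm_num, rfl⟩
    · exact ⟨4, by norm_num, rfl⟩
    · exact ⟨5, by norm_num, rfl⟩
  obtain ⟨m9, m11⟩ := P3A.cert_mem v hvinv (let12_ge f z5 z6 hfge) hbase H hswH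
  have hcap := onm_hcap17 σ f (fun s hs => hσf s (by omega)) hsq hcox h2
  have e5 : z5⁻¹ = 1 := hcap z5⁻¹ m9 (by rw [map_inv, MonoidHom.mem_ker.mp hz5k, inv_one])
  have e6 : z6⁻¹ = 1 := hcap z6⁻¹ m11 (by rw [map_inv, MonoidHom.mem_ker.mp hz6k, inv_one])
  exact ⟨inv_eq_one.mp e5, inv_eq_one.mp e6⟩

end Cfsg.Agent.Lib.helper17.ONM
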