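import Cfsg.Agent.Lib.helper17.ONM.ThreeA
import Cfsg.Agent.Lib.helper17.ONM.P3B.Main

set_option autoImplicit false

namespace Cfsg.Agent.Lib.helper17.ONM

open Cfsg.Spor Cfsg.Agent.Lib.Helper12.TC Cfsg.Agent.Lib.Helper12.TCG

local notation "vv" => ONPres.v

/-- the letters for the second certificate: `8, 9` for `z₇` and its inverse -/
def let10 {K : Type*} [Group K] (f : ℕ → K) (z7 : K) : ℕ → K
  | 8 => z7
  | 9 => z7⁻¹
  | s => f s

theorem let10_lt {K : Type*} [Group K] (f : ℕ → K) (z7 : K) : ∀ s < 8, let10 f z7 s = f s := by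
  intro s hs
  interval_cases s <;> rfl

theorem let10_ge {K : Type*} [Group K] (f : ℕ → K) (z7 : K) (hf : ∀ s, ¬ s < 8 → f s = 1) :
    ∀ s, ¬ s < 10 → let10 f z7 s = 1 := by
  intro s hs
  have h10 : 10 ≤ s := Nat.le_of_not_lt hs
  obtain ⟨t, rfl⟩ := Nat.exists_eq_add_of_le h10
  have e : let10 f z7 (10 + t) = f (10 + t) := by
    rw [Nat.add_comm]
    rfl
  rw [e]
  exact hf _ (by omega)

/-- the second step for the kernel of order three: if the words of `(b c d g)^5` and `g b g^c g^b g^c` hold for the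
lifts, so does the word of `g e g^d g^e g^d` -/
theorem onm_three_b {Γ : Type*} [Group Γ] (σ : Γ →* ON) (hc : σ.ker ≤ Subgroup.center Γ)
    (h3 : ∀ k ∈ σ.ker, k ^ 3 = 1) (f : ℕ → Γ)
    (hσf : ∀ s < 8, σ (f s) = vv s) (hf7 : f 7 = (f 6)⁻¹) (hfge : ∀ s, ¬ s < 8 → f s = 1)
    (hsq : ∀ s < 6, f s * f s = 1)
    (hcox : ∀ b ∈ coxWords ON.edges ONPres.gen 6, wprod f b = 1)
    (h1 : wprod f [0, 5, 7, 7] = 1) (h2 : wprod f [0, 5, 3, 2, 3, 2, 3, 2, 3, 2] = 1)
    (hx3 : wprod f [2, 7, 3, 7, 3, 2, 3, 6, 3, 6] = 1) (hx4 : wprod f [3, 7, 2, 7, 2, 3, 2, 6, 2, 6] = 1)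
    (hx5 : wprod f [1, 2, 3, 6, 1, 2, 3, 6, 1, 2, 3, 6, 1, 2, 3, 6, 1, 2, 3, 6] = 1)
    (hx6 : wprod f [6, 1, 2, 6, 2, 1, 6, 1, 2, 6, 2] = 1) :
    wprod f [6, 4, 3, 6, 3, 4, 6, 4, 3, 6, 3] = 1 := by
  set z7 := wprod f [6, 4, 3, 6, 3, 4, 6, 4, 3, 6, 3] with hz7
  have hz7k : z7 ∈ σ.ker := by
    rw [MonoidHom.mem_ker, hz7, map_wprod_lift σ f hσf _ (by decide)]
    exact on_word _ (by decide)
  have c7 : ∀ x : Γ, x * z7 = z7 * x := Subgroup.mem_center_iff.mp (hc hz7k)
  set v := let10 f z7 with hv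
  have hvlt : ∀ s < 8, v s = f s := let10_lt f z7
  have hw8 : ∀ w : List ℕ, (∀ s ∈ w, s < 8) → wprod v w = wprod f w :=
    fun w hw => wprod_congr_lt v f 8 hvlt w hw
  have hvinv : ∀ s < 10, v (invS P3B.cIV s) = (v s)⁻¹ := by
    intro s hs
    interval_cases s
    · exact (inv_eq_of_mul_eq_one_left (hsq 0 (by norm_num))).symm
    · exact (inv_eq_of_mul_eq_one_left (hsq 1 (by norm_num))).symm
    · exact (inv_eq_of_mul_eq_one_left (hsq 2 (by norm_num))).symm
    · exact (inv_eq_of_mul_eq_one_left (hsq 3 (by norm_num))).symm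
    · exact (inv_eq_of_mul_eq_one_left (hsq 4 (by norm_num))).symm
    · exact (inv_eq_of_mul_eq_one_left (hsq 5 (by norm_num))).symm
    · exact hf7
    · show f 6 = (f 7)⁻¹
      rw [hf7, inv_inv]
    · rfl
    · exact (inv_inv z7).symm
  have hi : ∀ s < 10, ∀ s' : ℕ, s' = invS P3B.cIV s → v s' = (v s)⁻¹ := by
    intro s hs s' e
    rw [e]
    exact hvinv s hs
  have hcen8 : ∀ s : ℕ, v s * v 8 = v 8 * v s := fun s => c7 (v s)
  have hbase : ∀ b ∈ P3B.baseL, wprod v b = 1 := by
    intro b hb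
    rcases List.mem_append.mp hb with h | h
    · have hl : ∀ s ∈ b, s < 8 := by
        intro s hs
        have : lettersK 6 (coxWords ON.edges ONPres.gen 6) = true := by decide
        have := lettersK_lt this h hs
        omega
      rw [hw8 b hl]
      exact hcox b h
    rcases List.mem_append.mp h with h | h
    · simp only [P3B.xWords, List.mem_cons, List.not_mem_nil, or_false] at h
      rcases h with rfl | rfl | rfl | rfl | rfl | rfl | rfl
      · show wprod v ([6, 4, 3, 6, 3, 4, 6, 4, 3, 6, 3] ++ [9]) = 1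
        have e9 : wprod v [9] = z7⁻¹ := by rw [wprod_cons, wprod_nil, mul_one]; rfl
        rw [wprod_append, hw8 _ (by decide), e9]
        exact mul_inv_cancel z7
      · rw [hw8 _ (by decide)]; exact h1
      · rw [hw8 _ (by decide)]; exact h2
      · rw [hw8 _ (by decide)]; exact hx3
      · rw [hw8 _ (by decide)]; exact hx4
      · rw [hw8 _ (by decide)]; exact hx5
      · rw [hw8 _ (by decide)]; exact hx6
    rcases List.mem_append.mp h with h | h
    · simp only [P3B.czWords, List.mem_cons, List.not_mem_nil, or_false] at h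
      rcases h with rfl | rfl | rfl | rfl | rfl | rfl | rfl | rfl
      · show z7 * (z7 * (z7 * 1)) = 1
        have := h3 z7 hz7k
        rw [pow_succ, pow_two] at this
        rw [mul_one, ← mul_assoc]; exact this
      · exact cz_word v 0 8 0 9 (hi 0 (by norm_num) 0 (by decide)) (hi 8 (by norm_num) 9 (by decide)) (hcen8 0)
      · exact cz_word v 1 8 1 9 (hi 1 (by norm_num) 1 (by decide)) (hi 8 (by norm_num) 9 (by decide)) (hcen8 1)
      · exact cz_word v 2 8 2 9 (hi 2 (by norm_num) 2 (by decide)) (hi 8 (by norm_num) 9 (by decide)) (hcen8 2)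
      · exact cz_word v 3 8 3 9 (hi 3 (by norm_num) 3 (by decide)) (hi 8 (by norm_num) 9 (by decide)) (hcen8 3)
      · exact cz_word v 4 8 4 9 (hi 4 (by norm_num) 4 (by decide)) (hi 8 (by norm_num) 9 (by decide)) (hcen8 4)
      · exact cz_word v 5 8 5 9 (hi 5 (by norm_num) 5 (by decide)) (hi 8 (by norm_num) 9 (by decide)) (hcen8 5)
      · exact cz_word v 6 8 7 9 (hi 6 (by norm_num) 7 (by decide)) (hi 8 (by norm_num) 9 (by decide)) (hcen8 6)
    rcases List.mem_append.mp h with h | h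
    · simp only [P3B.prWords, List.mem_cons, List.not_mem_nil, or_false] at h
      rcases h with rfl | rfl | rfl | rfl | rfl | rfl | rfl | rfl | rfl | rfl
      · exact pr_word v 0 0 (hi 0 (by norm_num) 0 (by decide))
      · exact pr_word v 1 1 (hi 1 (by norm_num) 1 (by decide))
      · exact pr_word v 2 2 (hi 2 (by norm_num) 2 (by decide))
      · exact pr_word v 3 3 (hi 3 (by norm_num) 3 (by decide))
      · exact pr_word v 4 4 (hi 4 (by norm_num) 4 (by decide))
      · exact pr_word v 5 5 (hi 5 (by norm_num) 5 (by decide))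
      · exact pr_word v 6 7 (hi 6 (by norm_num) 7 (by decide))
      · exact pr_word v 7 6 (hi 7 (by norm_num) 6 (by decide))
      · exact pr_word v 8 9 (hi 8 (by norm_num) 9 (by decide))
      · exact pr_word v 9 8 (hi 9 (by norm_num) 8 (by decide))
    · rw [List.mem_singleton.mp h]; rfl
  -- the subgroup generated by the lifts of `a, ..., f`
  set H : Subgroup Γ := Subgroup.closure {y : Γ | ∃ s < 6, y = f s} with hH
  have hswH : ∀ w ∈ P3B.sw, wprod v w ∈ H := by
    intro w hw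
    simp only [P3B.sw, List.mem_cons, List.not_mem_nil, or_false] at hw
    rcases hw with rfl | rfl | rfl | rfl | rfl | rfl
    all_goals
      rw [wprod_cons, wprod_nil, mul_one]
      apply Subgroup.subset_closure
    · exact ⟨0, by norm_num, rfl⟩
    · exact ⟨1, by norm_num, rfl⟩
    · exact ⟨2, by norm_num, rfl⟩
    · exact ⟨3, by norm_num, rfl⟩
    · exact ⟨4, by norm_num, rfl⟩
    · exact ⟨5, by norm_num, rfl⟩
  have m9 := P3B.cert_mem v hvinv (let10_ge f z7 hfge) hbase H hswH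
  have hcap := onm_hcap17 σ f (fun s hs => hσf s (by omega)) hsq hcox h2
  have e7 : z7⁻¹ = 1 := hcap z7⁻¹ m9 (by rw [map_inv, MonoidHom.mem_ker.mp hz7k, inv_one])
  exact inv_eq_one.mp e7

end Cfsg.Agent.Lib.helper17.ONM
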