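import Cfsg.Agent.Lib.helper17.ONM.ThreeA
import Cfsg.Agent.Lib.helper17.ONM.P2.Main

/-!
Project ONM (helper17): central kernel of exponent two.  Lifts of the generators for which the Coxeter words and the
words of `a f = (c d)^4`, `(b c d g)^5`, `g b g^c g^b g^c` hold satisfy all the relators (certificate `P2`).
-/

set_option autoImplicit false

namespace Cfsg.Agent.Lib.helper17.ONM

open Cfsg.Spor Cfsg.Agent.Lib.Helper12.TC Cfsg.Agent.Lib.Helper12.TCG

local notation "vv" => ONPres.v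

/-- the letters for the certificate `P2`: `8, 9, 10, 11` for the four central involutions -/
def let16 {K : Type*} [Group K] (f : ℕ → K) (z1 z3 z4 z7 : K) : ℕ → K
  | 8 => z1
  | 9 => z3
  | 10 => z4
  | 11 => z7
  | s => f s

theorem let16_lt {K : Type*} [Group K] (f : ℕ → K) (z1 z3 z4 z7 : K) :
    ∀ s < 8, let16 f z1 z3 z4 z7 s = f s := by
  intro s hs
  interval_cases s <;> rfl

theorem let16_ge {K : Type*} [Group K] (f : ℕ → K) (z1 z3 z4 z7 : K) (hf : ∀ s, ¬ s < 8 → f s = 1) :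
    ∀ s, ¬ s < 12 → let16 f z1 z3 z4 z7 s = 1 := by
  intro s hs
  have h12 : 12 ≤ s := Nat.le_of_not_lt hs
  obtain ⟨t, rfl⟩ := Nat.exists_eq_add_of_le h12
  have e : let16 f z1 z3 z4 z7 (12 + t) = f (12 + t) := by
    rw [Nat.add_comm]
    rfl
  rw [e]
  exact hf _ (by omega)

/-- a word followed by a letter whose value is the inverse of the value of the word -/
theorem wprod_snoc_inv {K : Type*} [Group K] (v : ℕ → K) (w : List ℕ) (s : ℕ) (h : v s = (wprod v w)⁻¹) :
    wprod v (w ++ [s]) = 1 := by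
  rw [wprod_append, wprod_cons, wprod_nil, mul_one, h, mul_inv_cancel]

/-- the kernel being central of exponent two: if the Coxeter words and the words of `a f = (c d)^4`, `(b c d g)^5`,
`g b g^c g^b g^c` hold for the lifts, so do the words of the other relators -/
theorem onm_two_core {Γ : Type*} [Group Γ] (σ : Γ →* ON) (hc : σ.ker ≤ Subgroup.center Γ)
    (hk2 : ∀ k ∈ σ.ker, k * k = 1) (f : ℕ → Γ)
    (hσf : ∀ s < 8, σ (f s) = vv s) (hf7 : f 7 = (f 6)⁻¹) (hfge : ∀ s, ¬ s < 8 → f s = 1)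
    (hsq : ∀ s < 6, f s * f s = 1)
    (hcox : ∀ b ∈ coxWords ON.edges ONPres.gen 6, wprod f b = 1)
    (h2 : wprod f [0, 5, 3, 2, 3, 2, 3, 2, 3, 2] = 1)
    (hx5 : wprod f [1, 2, 3, 6, 1, 2, 3, 6, 1, 2, 3, 6, 1, 2, 3, 6, 1, 2, 3, 6] = 1)
    (hx6 : wprod f [6, 1, 2, 6, 2, 1, 6, 1, 2, 6, 2] = 1) :
    wprod f [0, 5, 7, 7] = 1 ∧ wprod f [2, 7, 3, 7, 3, 2, 3, 6, 3, 6] = 1 ∧
      wprod f [3, 7, 2, 7, 2, 3, 2, 6, 2, 6] = 1 ∧ wprod f [6, 4, 3, 6, 3, 4, 6, 4, 3, 6, 3] = 1 := by
  set z1 := wprod f [0, 5, 7, 7] with hz1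
  set z3 := wprod f [2, 7, 3, 7, 3, 2, 3, 6, 3, 6] with hz3
  set z4 := wprod f [3, 7, 2, 7, 2, 3, 2, 6, 2, 6] with hz4
  set z7 := wprod f [6, 4, 3, 6, 3, 4, 6, 4, 3, 6, 3] with hz7
  have hz1k : z1 ∈ σ.ker := by
    rw [MonoidHom.mem_ker, hz1, map_wprod_lift σ f hσf _ (by decide)]
    exact on_word _ (by decide)
  have hz3k : z3 ∈ σ.ker := by
    rw [MonoidHom.mem_ker, hz3, map_wprod_lift σ f hσf _ (by decide)]
    exact on_word _ (by decide)
  have hz4k : z4 ∈ σ.ker := by
    rw [MonoidHom.mem_ker, hz4, map_wprod_lift σ f hσf _ (by decide)]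
    exact on_word _ (by decide)
  have hz7k : z7 ∈ σ.ker := by
    rw [MonoidHom.mem_ker, hz7, map_wprod_lift σ f hσf _ (by decide)]
    exact on_word _ (by decide)
  have c1 : ∀ x : Γ, x * z1 = z1 * x := Subgroup.mem_center_iff.mp (hc hz1k)
  have c3 : ∀ x : Γ, x * z3 = z3 * x := Subgroup.mem_center_iff.mp (hc hz3k)
  have c4 : ∀ x : Γ, x * z4 = z4 * x := Subgroup.mem_center_iff.mp (hc hz4k)
  have c7 : ∀ x : Γ, x * z7 = z7 * x := Subgroup.mem_center_iff.mp (hc hz7k)
  have i1 : z1 = z1⁻¹ := (inv_eq_of_mul_eq_one_left (hk2 z1 hz1k)).symm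
  have i3 : z3 = z3⁻¹ := (inv_eq_of_mul_eq_one_left (hk2 z3 hz3k)).symm
  have i4 : z4 = z4⁻¹ := (inv_eq_of_mul_eq_one_left (hk2 z4 hz4k)).symm
  have i7 : z7 = z7⁻¹ := (inv_eq_of_mul_eq_one_left (hk2 z7 hz7k)).symm
  set v := let16 f z1 z3 z4 z7 with hv
  have hvlt : ∀ s < 8, v s = f s := let16_lt f z1 z3 z4 z7
  have hw8 : ∀ w : List ℕ, (∀ s ∈ w, s < 8) → wprod v w = wprod f w :=
    fun w hw => wprod_congr_lt v f 8 hvlt w hw
  have hvinv : ∀ s < 12, v (invS P2.cIV s) = (v s)⁻¹ := by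
    intro s hs
    interval_cases s
    · exact (inv_eq_of_mul_eq_one_left (hsq 0 (by norm_num))).symm
    · exact (inv_eq_of_mul_eq_one_left (hsq 1 (by norm_num))).symm
    · exact (inv_eq_of_mul_eq_one_left (hsq 2 (by norm_num))).symm
    · exact (inv_eq_of_mul_eq_one_left (hsq 3 (by norm_num))).symm
    · exact (inv_eq_of_mul_eq_one_left (hsq 4 (by norm_num))).symm
    · exact (inv_eq_of_mul_eq_one_left (hsq 5 (by norm_num))).symm
    · exact hf7
    · show f 6 = (f 7)⁻¹
      rw [hf7, inv_inv]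
    · exact i1
    · exact i3
    · exact i4
    · exact i7
  have hi : ∀ s < 12, ∀ s' : ℕ, s' = invS P2.cIV s → v s' = (v s)⁻¹ := by
    intro s hs s' e
    rw [e]
    exact hvinv s hs
  have hcen8 : ∀ s : ℕ, v s * v 8 = v 8 * v s := fun s => c1 (v s)
  have hcen9 : ∀ s : ℕ, v s * v 9 = v 9 * v s := fun s => c3 (v s)
  have hcen10 : ∀ s : ℕ, v s * v 10 = v 10 * v s := fun s => c4 (v s)
  have hcen11 : ∀ s : ℕ, v s * v 11 = v 11 * v s := fun s => c7 (v s)
  have hbase : ∀ b ∈ P2.baseL, wprod v b = 1 := by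
    intro b hb
    rcases List.mem_append.mp hb with h | h
    · have hl : ∀ s ∈ b, s < 8 := by
        intro s hs
        have : lettersK 6 (coxWords ON.edges ONPres.gen 6) = true := by decide
        have := lettersK_lt this h hs
        omega
      rw [hw8 b hl]
      exact hcox b h
    rcases List.mem_append.mp h with h | h
    · simp only [P2.xWords, List.mem_cons, List.not_mem_nil, or_false] at h
      rcases h with rfl | rfl | rfl | rfl | rfl | rfl | rfl
      · rw [hw8 _ (by decide)]; exact h2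
      · rw [hw8 _ (by decide)]; exact hx5
      · rw [hw8 _ (by decide)]; exact hx6
      · show wprod v ([0, 5, 7, 7] ++ [8]) = 1
        apply wprod_snoc_inv
        rw [hw8 _ (by decide)]
        exact i1
      · show wprod v ([2, 7, 3, 7, 3, 2, 3, 6, 3, 6] ++ [9]) = 1
        apply wprod_snoc_inv
        rw [hw8 _ (by decide)]
        exact i3
      · show wprod v ([3, 7, 2, 7, 2, 3, 2, 6, 2, 6] ++ [10]) = 1
        apply wprod_snoc_inv
        rw [hw8 _ (by decide)]
        exact i4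
      · show wprod v ([6, 4, 3, 6, 3, 4, 6, 4, 3, 6, 3] ++ [11]) = 1
        apply wprod_snoc_inv
        rw [hw8 _ (by decide)]
        exact i7
    rcases List.mem_append.mp h with h | h
    · simp only [P2.czWords, List.mem_cons, List.not_mem_nil, or_false] at h
      rcases h with rfl | rfl | rfl | rfl | rfl | rfl | rfl | rfl | rfl | rfl | rfl | rfl | rfl | rfl |
        rfl | rfl | rfl | rfl | rfl | rfl | rfl | rfl | rfl | rfl | rfl | rfl | rfl | rfl
      · exact cz_word v 0 8 0 8 (hi 0 (by norm_num) 0 (by decide)) (hi 8 (by norm_num) 8 (by decide)) (hcen8 0)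
      · exact cz_word v 1 8 1 8 (hi 1 (by norm_num) 1 (by decide)) (hi 8 (by norm_num) 8 (by decide)) (hcen8 1)
      · exact cz_word v 2 8 2 8 (hi 2 (by norm_num) 2 (by decide)) (hi 8 (by norm_num) 8 (by decide)) (hcen8 2)
      · exact cz_word v 3 8 3 8 (hi 3 (by norm_num) 3 (by decide)) (hi 8 (by norm_num) 8 (by decide)) (hcen8 3)
      · exact cz_word v 4 8 4 8 (hi 4 (by norm_num) 4 (by decide)) (hi 8 (by norm_num) 8 (by decide)) (hcen8 4)
      · exact cz_word v 5 8 5 8 (hi 5 (by norm_num) 5 (by decide)) (hi 8 (by norm_num) 8 (by decide)) (hcen8 5)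
      · exact cz_word v 6 8 7 8 (hi 6 (by norm_num) 7 (by decide)) (hi 8 (by norm_num) 8 (by decide)) (hcen8 6)
      · exact cz_word v 0 9 0 9 (hi 0 (by norm_num) 0 (by decide)) (hi 9 (by norm_num) 9 (by decide)) (hcen9 0)
      · exact cz_word v 1 9 1 9 (hi 1 (by norm_num) 1 (by decide)) (hi 9 (by norm_num) 9 (by decide)) (hcen9 1)
      · exact cz_word v 2 9 2 9 (hi 2 (by norm_num) 2 (by decide)) (hi 9 (by norm_num) 9 (by decide)) (hcen9 2)
      · exact cz_word v 3 9 3 9 (hi 3 (by norm_num) 3 (by decide)) (hi 9 (by norm_num) 9 (by decide)) (hcen9 3)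
      · exact cz_word v 4 9 4 9 (hi 4 (by norm_num) 4 (by decide)) (hi 9 (by norm_num) 9 (by decide)) (hcen9 4)
      · exact cz_word v 5 9 5 9 (hi 5 (by norm_num) 5 (by decide)) (hi 9 (by norm_num) 9 (by decide)) (hcen9 5)
      · exact cz_word v 6 9 7 9 (hi 6 (by norm_num) 7 (by decide)) (hi 9 (by norm_num) 9 (by decide)) (hcen9 6)
      · exact cz_word v 0 10 0 10 (hi 0 (by norm_num) 0 (by decide)) (hi 10 (by norm_num) 10 (by decide)) (hcen10 0)
      · exact cz_word v 1 10 1 10 (hi 1 (by norm_num) 1 (by decide)) (hi 10 (by norm_num) 10 (by decide)) (hcen10 1)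
      · exact cz_word v 2 10 2 10 (hi 2 (by norm_num) 2 (by decide)) (hi 10 (by norm_num) 10 (by decide)) (hcen10 2)
      · exact cz_word v 3 10 3 10 (hi 3 (by norm_num) 3 (by decide)) (hi 10 (by norm_num) 10 (by decide)) (hcen10 3)
      · exact cz_word v 4 10 4 10 (hi 4 (by norm_num) 4 (by decide)) (hi 10 (by norm_num) 10 (by decide)) (hcen10 4)
      · exact cz_word v 5 10 5 10 (hi 5 (by norm_num) 5 (by decide)) (hi 10 (by norm_num) 10 (by decide)) (hcen10 5)
      · exact cz_word v 6 10 7 10 (hi 6 (by norm_num) 7 (by decide)) (hi 10 (by norm_num) 10 (by decide)) (hcen10 6)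
      · exact cz_word v 0 11 0 11 (hi 0 (by norm_num) 0 (by decide)) (hi 11 (by norm_num) 11 (by decide)) (hcen11 0)
      · exact cz_word v 1 11 1 11 (hi 1 (by norm_num) 1 (by decide)) (hi 11 (by norm_num) 11 (by decide)) (hcen11 1)
      · exact cz_word v 2 11 2 11 (hi 2 (by norm_num) 2 (by decide)) (hi 11 (by norm_num) 11 (by decide)) (hcen11 2)
      · exact cz_word v 3 11 3 11 (hi 3 (by norm_num) 3 (by decide)) (hi 11 (by norm_num) 11 (by decide)) (hcen11 3)
      · exact cz_word v 4 11 4 11 (hi 4 (by norm_num) 4 (by decide)) (hi 11 (by norm_num) 11 (by decide)) (hcen11 4)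
      · exact cz_word v 5 11 5 11 (hi 5 (by norm_num) 5 (by decide)) (hi 11 (by norm_num) 11 (by decide)) (hcen11 5)
      · exact cz_word v 6 11 7 11 (hi 6 (by norm_num) 7 (by decide)) (hi 11 (by norm_num) 11 (by decide)) (hcen11 6)
    rcases List.mem_append.mp h with h | h
    · simp only [P2.prWords, List.mem_cons, List.not_mem_nil, or_false] at h
      rcases h with rfl | rfl | rfl | rfl | rfl | rfl | rfl | rfl | rfl | rfl | rfl | rfl
      · exact pr_word v 0 0 (hi 0 (by norm_num) 0 (by decide))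
      · exact pr_word v 1 1 (hi 1 (by norm_num) 1 (by decide))
      · exact pr_word v 2 2 (hi 2 (by norm_num) 2 (by decide))
      · exact pr_word v 3 3 (hi 3 (by norm_num) 3 (by decide))
      · exact pr_word v 4 4 (hi 4 (by norm_num) 4 (by decide))
      · exact pr_word v 5 5 (hi 5 (by norm_num) 5 (by decide))
      · exact pr_word v 6 7 (hi 6 (by norm_num) 7 (by decide))
      · exact pr_word v 7 6 (hi 7 (by norm_num) 6 (by decide))
      · exact pr_word v 8 8 (hi 8 (by norm_num) 8 (by decide))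
      · exact pr_word v 9 9 (hi 9 (by norm_num) 9 (by decide))
      · exact pr_word v 10 10 (hi 10 (by norm_num) 10 (by decide))
      · exact pr_word v 11 11 (hi 11 (by norm_num) 11 (by decide))
    · rw [List.mem_singleton.mp h]; rfl
  -- the subgroup generated by the lifts of `a, ..., f`
  set H : Subgroup Γ := Subgroup.closure {y : Γ | ∃ s < 6, y = f s} with hH
  have hswH : ∀ w ∈ P2.sw, wprod v w ∈ H := by
    intro w hw
    simp only [P2.sw, List.mem_cons, List.not_mem_nil, or_false] at hw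
    rcases hw with rfl | rfl | rfl | rfl | rfl | rfl
    all_goals
      rw [wprod_cons, wprod_nil, mul_one]
      apply Subgroup.subset_closure
    · exact ⟨0, by norm_num, rfl⟩
    · exact ⟨1, by norm_num, rfl⟩
    · exact ⟨2, by norm_num, rfl⟩
    · exact ⟨3, by norm_num, rfl⟩
    · exact ⟨4, by norm_num, rfl⟩
    · exact ⟨5, by norm_num, rfl⟩
  obtain ⟨m8, m9, m10, m11⟩ := P2.cert_mem v hvinv (let16_ge f z1 z3 z4 z7 hfge) hbase H hswH
  have hcap := onm_hcap17 σ f (fun s hs => hσf s (by omega)) hsq hcox h2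
  exact ⟨hcap z1 m8 (MonoidHom.mem_ker.mp hz1k), hcap z3 m9 (MonoidHom.mem_ker.mp hz3k),
    hcap z4 m10 (MonoidHom.mem_ker.mp hz4k), hcap z7 m11 (MonoidHom.mem_ker.mp hz7k)⟩

end Cfsg.Agent.Lib.helper17.ONM
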